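import Mathlib
import Cfsg.Agent.Lib.Deg.FS3

/-!
Indicators of induced characters, relative column orthogonality, parity arguments.
-/

set_option autoImplicit false

namespace H87

open Cfsg H6
open scoped ComplexConjugate commutatorElement

set_option linter.unusedSectionVars false

variable {G : Type*} [Group G] [Fintype G]

theorem nu_eq_sum_inner {θ : G → ℂ} (h : IsClassFunction G θ) :
    nu θ = ∑ χ : IrrCharacter G, classInner θ χ * nu (χ : G → ℂ) := by
  conv_lhs => rw [classFun_eq_sum_irr h]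
  rw [nu_sum]; simp only [nu_smul]

theorem nu_indFun (T : Subgroup G) (θ : T → ℂ) :
    nu (indFun T θ) = (Nat.card T : ℂ)⁻¹ * ∑ g : G, extendByZero T θ (g * g) := by
  simp only [nu_def, H7.indFun_apply, ← Finset.mul_sum]
  rw [Finset.sum_comm, mul_left_comm]
  congr 1
  have : ∀ x : G, ∑ g : G, extendByZero T θ (x⁻¹ * (g * g) * x) =
      ∑ g : G, extendByZero T θ (g * g) := fun x =>
    Fintype.sum_equiv (MulAut.conj x⁻¹).toEquiv _ _ fun g => by
      congr 1
      simp only [MulEquiv.toEquiv_eq_coe, MulEquiv.coe_toEquiv, MulAut.conj_apply, inv_inv]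
      group
  simp only [this, Finset.sum_const, Finset.card_univ, ← Nat.card_eq_fintype_card, nsmul_eq_mul]
  rw [← mul_assoc, inv_mul_cancel₀ card_ne_zero, one_mul]

open Classical in
/-- Relative column orthogonality: the characters over `φ` separate classes of `G / N`. -/
theorem sum_over_mul_conj_eq_zero {N : Subgroup G} [N.Normal] {φ : N → ℂ}
    (hφ : IsIrrCharacter N φ) {g h : G} (hc : ¬ IsConj (g : G ⧸ N) (h : G ⧸ N)) :
    ∑ χ ∈ Finset.univ.filter (fun χ : IrrCharacter G => Over N χ φ),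
      (χ : G → ℂ) g * conj ((χ : G → ℂ) h) = 0 := by
  have := Fintype.ofFinite N
  have hf : IsClassFunction G (fun x => conj (indFun N φ x)) :=
    isClassFunction_conj (H7.isClassFunction_indFun N φ)
  have h1 : ∑ χ : IrrCharacter G, (∑ x, conj (indFun N φ x) * (χ : G → ℂ) (x * g)) *
      conj ((χ : G → ℂ) h) = 0 := by
    simp only [Finset.sum_mul]
    rw [Finset.sum_comm]
    refine Finset.sum_eq_zero fun x _ => ?_
    simp only [mul_assoc, ← Finset.mul_sum]
    by_cases hx : x ∈ N
    · rw [column_orthogonality_not_isConj, mul_zero]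
      intro hc'
      apply hc
      have := (QuotientGroup.mk' N).map_isConj hc'
      simpa [(QuotientGroup.eq_one_iff x).2 hx] using this
    · rw [H7.indFun_eq_zero_of_not_mem_normal N N le_rfl φ hx, map_zero, zero_mul]
  have hc0 : (Nat.card G : ℂ) / ((H7.inertia φ).index * φ 1) ≠ 0 :=
    div_ne_zero card_ne_zero (mul_ne_zero (H7.index_ne_zero' _) (irr_one_ne_zero hφ))
  apply mul_left_cancel₀ hc0
  rw [mul_zero, ← h1, Finset.mul_sum, Finset.sum_filter]
  refine Finset.sum_congr rfl fun χ _ => ?_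
  rw [sum_mul_irr_mul χ.2 hf g]
  have e : ∑ x, conj (indFun N φ x) * (χ : G → ℂ) x =
      Nat.card G * classInner (fun n : N => (χ : G → ℂ) n) φ := by
    rw [← H7.classInner_indFun_right N φ (irr_isClassFunction χ.2), card_mul_classInner]
    simp only [mul_comm]
  rw [e]
  split_ifs with ho
  · rw [over_iff] at ho
    rw [H7.clifford_degree χ.2 hφ ho]
    have := H7.index_ne_zero' (H7.inertia φ)
    have := irr_one_ne_zero hφ
    field_simp
  · rw [over_iff, not_not] at ho
    simp [ho]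

theorem mem_of_mul_self_mem_of_odd {N : Subgroup G} [N.Normal] (hodd : Odd N.index) {g : G}
    (h : g * g ∈ N) : g ∈ N := by
  obtain ⟨k, hk⟩ := hodd
  have h1 := N.pow_index_mem g
  rw [hk, pow_succ, pow_mul, pow_two] at h1
  exact (N.mul_mem_cancel_left (pow_mem h k)).1 h1

theorem eq_one_of_isConj_inv_of_odd {H : Type*} [Group H] (hodd : Odd (Nat.card H)) {x : H}
    (h : IsConj x x⁻¹) : x = 1 := by
  obtain ⟨c, hc⟩ := isConj_iff.1 h
  obtain ⟨k, hk⟩ := hodd
  have h1 : c * c * x = x * (c * c) := by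
    have : c * (c * x * c⁻¹) * c⁻¹ = x := by
      rw [hc, ← conj_inv, hc, inv_inv]
    calc c * c * x = c * (c * x * c⁻¹) * c⁻¹ * (c * c) := by group
      _ = _ := by rw [this]
  have h2 : c = ((c * c) ^ k)⁻¹ := by
    have := pow_card_eq_one' (x := c)
    rw [hk, pow_succ, pow_mul, pow_two] at this
    exact eq_inv_of_mul_eq_one_right this
  have h3 : Commute c x := by
    rw [h2]; exact ((show Commute (c * c) x from h1).pow_left k).inv_left
  rw [h3.eq, mul_inv_cancel_right] at hc
  have h4 := pow_card_eq_one' (x := x)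
  rwa [hk, pow_succ, pow_mul, pow_two, mul_eq_one_iff_eq_inv.2 hc, one_pow, one_mul] at h4

/-- The indicator of a character induced from a normal subgroup of odd index. -/
theorem nu_indFun_of_odd {N : Subgroup G} [N.Normal] [Fintype N] (hodd : Odd N.index)
    (φ : N → ℂ) : nu (indFun N φ) = nu φ := by
  rw [nu_indFun, nu_def]
  congr 1
  rw [← H7.sum_extendByZero]
  refine Finset.sum_congr rfl fun g _ => ?_
  by_cases hg : g ∈ N
  · rw [H7.extendByZero_of_mem _ _ hg, H7.extendByZero_of_mem _ _ (mul_mem hg hg)]; rfl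
  · rw [H7.extendByZero_of_not_mem _ _ hg, H7.extendByZero_of_not_mem _ _
      fun h => hg (mem_of_mul_self_mem_of_odd hodd h)]

open Classical in
theorem sum_over_inner_sq {N : Subgroup G} [N.Normal] [Fintype N] {φ : N → ℂ}
    (hφ : IsIrrCharacter N φ) :
    ∑ χ : IrrCharacter G, classInner (fun n : N => (χ : G → ℂ) n) φ ^ 2 =
      N.relIndex (H7.inertia φ) := by
  rw [← H7.classInner_indFun_self_normal hφ, parseval (H7.isClassFunction_indFun N φ)]
  refine Finset.sum_congr rfl fun χ _ => ?_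
  obtain ⟨e, he⟩ := char_inner_nat (isCharacter_restrict N (irr_isCharacter χ.2))
    (irr_isCharacter hφ)
  rw [H7.inner_indFun_eq_inner_res N (irr_isGen hφ) (irr_isGen χ.2), he, Complex.conj_natCast,
    pow_two]

open Classical in
/-- Over a real character of a normal subgroup of odd index there is exactly one real one. -/
theorem card_real_over_of_odd {N : Subgroup G} [N.Normal] (hodd : Odd N.index) {φ : N → ℂ}
    (hφ : IsIrrCharacter N φ) (hr : IsReal φ) :
    (Finset.univ.filter (fun χ : IrrCharacter G => Over N χ φ ∧ IsReal (χ : G → ℂ))).card = 1 := by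
  have := Fintype.ofFinite N
  have h1 : ∑ χ ∈ Finset.univ.filter (fun χ : IrrCharacter G => Over N χ φ),
      ∑ g, (χ : G → ℂ) g * (χ : G → ℂ) g = Nat.card G *
      (Finset.univ.filter (fun χ : IrrCharacter G => Over N χ φ ∧ IsReal (χ : G → ℂ))).card := by
    rw [← Finset.filter_filter, Finset.card_filter, Nat.cast_sum, Finset.mul_sum]
    refine Finset.sum_congr rfl fun χ _ => ?_
    split_ifs with hr
    · simp [sum_sq_of_isReal χ.2 hr]
    · simp [sum_sq_of_not_isReal χ.2 hr]
  have hΦ : ∀ n, conj (H7.conjSum φ n) = H7.conjSum φ n := fun n => by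
    rw [H7.conjSum_def, Finset.sum_apply, map_sum]
    refine Finset.sum_congr rfl fun ψ hψ => ?_
    obtain ⟨g, rfl⟩ := H7.mem_conjOrbit.1 hψ
    exact isReal_iff_conj.1 hr _
  have h2 : ∑ χ ∈ Finset.univ.filter (fun χ : IrrCharacter G => Over N χ φ),
      ∑ g, (χ : G → ℂ) g * (χ : G → ℂ) g = Nat.card G := by
    rw [Finset.sum_comm, ← Finset.sum_filter_add_sum_filter_not _ (· ∈ N),
      Finset.sum_eq_zero (s := Finset.univ.filter (¬ · ∈ N)), add_zero,
      Finset.sum_subtype (F := this) (p := (· ∈ N)) _ (by simp), Finset.sum_comm]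
    · have e : ∀ χ ∈ Finset.univ.filter (fun χ : IrrCharacter G => Over N χ φ),
          ∑ n : N, (χ : G → ℂ) n * (χ : G → ℂ) n = classInner (fun n : N => (χ : G → ℂ) n) φ ^ 2 *
            (Nat.card N * (H7.inertia φ).index) := fun χ hχ => by
        have h := H7.clifford χ.2 hφ (over_iff.1 (Finset.mem_filter.1 hχ).2)
        rw [← H7.classInner_conjSum_self hφ, card_mul_classInner, Finset.mul_sum]
        refine Finset.sum_congr rfl fun n _ => ?_
        rw [congrFun h n, hΦ, Pi.smul_apply, smul_eq_mul]; ring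
      rw [Finset.sum_congr rfl e, ← Finset.sum_mul, Finset.sum_filter_of_ne, sum_over_inner_sq hφ,
        ← mul_assoc]
      · have hle : N ≤ H7.inertia φ := H7.le_inertia (irr_isClassFunction hφ)
        rw [← (H7.inertia φ).card_mul_index, ← (N.subgroupOf (H7.inertia φ)).index_mul_card,
          Nat.card_congr (Subgroup.subgroupOfEquivOfLe hle).toEquiv, Subgroup.relIndex]
        push_cast; rfl
      · intro χ _ h
        exact over_iff.2 fun h0 => h (by rw [h0]; simp)
    · intro g hg
      have hc : ¬ IsConj (g : G ⧸ N) ((g⁻¹ : G) : G ⧸ N) := fun hc =>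
        (Finset.mem_filter.1 hg).2 ((QuotientGroup.eq_one_iff g).1
          (eq_one_of_isConj_inv_of_odd hodd hc))
      rw [← sum_over_mul_conj_eq_zero hφ hc]
      exact Finset.sum_congr rfl fun χ _ => by rw [char_inv (irr_isCharacter χ.2)]; simp
  have := mul_left_cancel₀ card_ne_zero (h1.symm.trans (h2.trans (mul_one _).symm))
  exact_mod_cast this

/-- A linear character inverted by `z` induces a character with indicator one. -/
theorem nu_indFun_hom_eq_one {N T : Subgroup G} [hN : N.Normal] (hNT : N ≤ T) (θ : T →* ℂˣ) {z : G}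
    (hz : ∀ t ∈ T, z * t * z⁻¹ ∈ T)
    (hinv : ∀ t : T, θ ⟨z * t * z⁻¹, hz t t.2⟩ = (θ t)⁻¹)
    (hz2 : ∃ h : z * z ∈ T, θ ⟨z * z, h⟩ = 1)
    (hT : ∀ g : G, (∀ n : N, θ ⟨g * n * g⁻¹, hNT (hN.conj_mem _ n.2 g)⟩ = θ ⟨n, hNT n.2⟩) → g ∈ T) :
    nu (indFun T (fun t => (θ t : ℂ))) = 1 := by
  classical
  have := Fintype.ofFinite N
  have hTf := Fintype.ofFinite T
  obtain ⟨hzz, hz2⟩ := hz2
  set F : G → ℂ := extendByZero T (fun t => (θ t : ℂ)) with hF
  have hFm : ∀ t : T, ∀ x, F (t * x) = θ t * F x := fun t x => by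
    by_cases hx : x ∈ T
    · rw [hF, H7.extendByZero_of_mem _ _ hx, H7.extendByZero_of_mem _ _ (mul_mem t.2 hx),
        ← Units.val_mul, ← map_mul]; rfl
    · rw [hF, H7.extendByZero_of_not_mem _ _ hx, H7.extendByZero_of_not_mem _ _
        (fun h => hx ((T.mul_mem_cancel_left t.2).1 h)), mul_zero]
  -- the linear character `n ↦ θ n θ (g n g⁻¹)` of `N`
  let lam : G → N →* ℂˣ := fun g => (θ.comp (Subgroup.inclusion hNT)) *
    ((θ.comp (Subgroup.inclusion hNT)).comp (MulAut.conjNormal g).toMonoidHom)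
  have h1 : ∀ g, ∑ n : N, F (n * g * (n * g)) = (∑ n : N, (lam g n : ℂ)) * F (g * g) := fun g => by
    rw [Finset.sum_mul]
    refine Finset.sum_congr rfl fun n _ => ?_
    have e : (n : G) * g * (n * g) = (⟨n, hNT n.2⟩ : T) *
        ((⟨g * n * g⁻¹, hNT (hN.conj_mem _ n.2 g)⟩ : T) * (g * g)) := by
      simp only; group
    rw [e, hFm, hFm, ← mul_assoc, ← Units.val_mul]; rfl
  have h2 : ∀ g, z⁻¹ * g ∉ T → ∑ n : N, (lam g n : ℂ) = 0 := fun g hg => by
    have hne : lam g ≠ 1 := fun h => hg (hT _ fun n => by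
      have a := DFunLike.congr_fun h n
      have b := hinv ⟨z⁻¹ * g * n * (z⁻¹ * g)⁻¹, hNT (hN.conj_mem _ n.2 _)⟩
      have c : (⟨z * (z⁻¹ * g * n * (z⁻¹ * g)⁻¹) * z⁻¹, hz _ (hNT (hN.conj_mem _ n.2 _))⟩ : T) =
          ⟨g * n * g⁻¹, hNT (hN.conj_mem _ n.2 g)⟩ := Subtype.ext (by simp only; group)
      rw [c] at b
      have a' : θ ⟨n, hNT n.2⟩ * θ ⟨g * n * g⁻¹, hNT (hN.conj_mem _ n.2 g)⟩ = 1 := a
      rw [b, mul_inv_eq_one] at a'
      exact a'.symm)
    have := hom_inner (lam g) 1
    rw [if_neg hne, classInner_def] at this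
    simpa [card_ne_zero (G := N)] using this
  have h3 : ∀ t : T, F (z * t * (z * t)) = 1 := fun t => by
    have e : z * t * (z * t) = (⟨z * t * z⁻¹, hz t t.2⟩ : T) * ((⟨z * z, hzz⟩ : T) * (t * 1)) := by
      simp only; group
    rw [e, hFm, hFm, hFm, hinv, hz2, hF, H7.extendByZero_one]
    simp
  have h4 : ∑ g, F (g * g) = Nat.card T := by
    have a1 : ∑ g ∈ Finset.univ.filter (fun g => z⁻¹ * g ∈ T), F (g * g) = Nat.card T := by
      rw [Nat.card_eq_fintype_card, Fintype.card_eq_sum_ones, Nat.cast_sum]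
      symm
      refine Finset.sum_bij (fun t _ => z * t) (fun t _ => by simp) (fun a _ b _ h =>
        Subtype.ext (mul_left_cancel h)) (fun g hg =>
        ⟨⟨z⁻¹ * g, (Finset.mem_filter.1 hg).2⟩, Finset.mem_univ _, by simp⟩) fun t _ => ?_
      rw [h3]; simp
    have a2 : ∑ g ∈ Finset.univ.filter (fun g => ¬ z⁻¹ * g ∈ T), F (g * g) = 0 := by
      apply mul_left_cancel₀ (card_ne_zero (G := N))
      have b : ∀ n : N, ∑ g ∈ Finset.univ.filter (fun g => ¬ z⁻¹ * g ∈ T), F (g * g) =
          ∑ g ∈ Finset.univ.filter (fun g => ¬ z⁻¹ * g ∈ T), F (n * g * (n * g)) := fun n => by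
        symm
        refine Finset.sum_equiv (Equiv.mulLeft (n : G)) (fun g => ?_) (fun g _ => rfl)
        simp only [Finset.mem_filter, Finset.mem_univ, true_and, Equiv.coe_mulLeft]
        rw [show z⁻¹ * (n * g) = (z⁻¹ * n * z⁻¹⁻¹) * (z⁻¹ * g) by group,
          T.mul_mem_cancel_left (hNT (hN.conj_mem _ n.2 _))]
      calc (Nat.card N : ℂ) * _ = ∑ n : N, ∑ g ∈ Finset.univ.filter (fun g => ¬ z⁻¹ * g ∈ T),
            F (g * g) := by simp [Nat.card_eq_fintype_card]
        _ = ∑ g ∈ Finset.univ.filter (fun g => ¬ z⁻¹ * g ∈ T), ∑ n : N, F (n * g * (n * g)) := by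
            rw [Finset.sum_congr rfl fun n _ => b n, Finset.sum_comm]
        _ = _ := by
            rw [mul_zero]
            refine Finset.sum_eq_zero fun g hg => ?_
            rw [h1, h2 g (Finset.mem_filter.1 hg).2, zero_mul]
    rw [← Finset.sum_filter_add_sum_filter_not _ (fun g => z⁻¹ * g ∈ T), a1, a2, add_zero]
  rw [nu_indFun, h4, inv_mul_cancel₀ card_ne_zero]

open Classical in
/-- If a weighted sum over a conjugation-stable family is odd and the terms of indicator `-1` are
even, then some character of indicator one has an odd term. -/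
theorem exists_nu_eq_one_of_odd (a : IrrCharacter G → ℕ) (hconj : ∀ χ, a (irrConj χ) = a χ)
    (hneg : ∀ χ : IrrCharacter G, nu (χ : G → ℂ) = -1 → Even (a χ)) (hodd : Odd (∑ χ, a χ)) :
    ∃ χ : IrrCharacter G, nu (χ : G → ℂ) = 1 ∧ Odd (a χ) := by
  by_contra hcon
  push Not at hcon
  rw [← Nat.not_even_iff_odd, ← ZMod.natCast_eq_zero_iff_even, Nat.cast_sum] at hodd
  refine hodd (Finset.sum_involution (fun χ _ => irrConj χ) (fun χ _ => ?_) (fun χ _ h e => h ?_)
    (fun _ _ => Finset.mem_univ _) (fun χ _ => irrConj_irrConj χ))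
  · rw [hconj]; exact CharTwo.add_self_eq_zero _
  · rw [ZMod.natCast_eq_zero_iff_even]
    rcases nu_of_isReal χ.2 ((irrConj_eq_iff χ).1 e) with h1 | h1
    · exact Nat.not_odd_iff_even.1 (hcon χ h1)
    · exact hneg χ h1

end H87
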