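import Mathlib
import Cfsg.Agent.Lib.Deg.Basic
import Cfsg.Agent.Lib.Block.Kernel
import Cfsg.Agent.Lib.Block.Quot
import Cfsg.Agent.Lib.Block.Apps
import Cfsg.Agent.Lib.Comp.PConstrained
import Cfsg.Agent.Lib.Core.Hall

/-!
The principal block of a `p`-constrained group.
-/

set_option autoImplicit false

namespace H87

open Cfsg H6

variable {G : Type*} [Group G] [Finite G] {p : ℕ} [hp : Fact p.Prime] {M : Ideal AlgInt}

theorem pPrimeCore_le_charKer (hM : IsPModular p M) {χ : IrrCharacter G}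
    (h : χ ∈ principalBlock M G) : pPrimeCore p G ≤ charKer (χ : G → ℂ) :=
  haveI := H33.isMaximal_of hM
  fun _ hn => (mem_charKer (irr_isCharacter χ.2)).2 (H34.principal_apply_of_mem_pPrimeCore hM h hn)

theorem mem_principal_of_centralizer_le (hM : IsPModular p M) {N : Subgroup G} [N.Normal]
    (hc : Subgroup.centralizer (pCore p (G ⧸ N) : Set (G ⧸ N)) ≤ pCore p (G ⧸ N))
    {χ : IrrCharacter G} (h : N ≤ charKer (χ : G → ℂ)) : χ ∈ principalBlock M G := by
  haveI := H33.isMaximal_of hM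
  obtain ⟨ψ, hψ⟩ := (inflEquiv N).surjective ⟨χ, h⟩
  obtain rfl : H35.infl N ψ = χ := congrArg Subtype.val hψ
  exact H34.infl_mem_principal (H33.sameBlock_of_Cen hM (P := pCore p (G ⧸ N)) H1.isPGroup_pCore
    (H1.isPGroup_pCore.to_le hc) (H33.oneIrr _) ψ)

theorem mem_principal_iff_of_isPSolvable (hM : IsPModular p M) (hs : IsPSolvable p G)
    (χ : IrrCharacter G) : χ ∈ principalBlock M G ↔ pPrimeCore p G ≤ charKer (χ : G → ℂ) :=
  ⟨pPrimeCore_le_charKer hM, mem_principal_of_centralizer_le hM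
    (H23.centralizer_pCore_le_of_isPSolvable ((H3.isPSolvable_iff_isPiSeparable hp.out).2
      ((H3.isPiSeparable_of_isPSolvable hp.out hs).quotient _)) H1.pPrimeCore_quotient_pPrimeCore)⟩

end H87
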