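import Mathlib
import Cfsg.Agent.Lib.Deg.Cliff
import Cfsg.Agent.Lib.Deg.Frob

/-!
Products of classes and anticentral elements.
-/

set_option autoImplicit false

namespace H87

open Cfsg H6
open scoped ComplexConjugate commutatorElement Pointwise

set_option linter.unusedSectionVars false

variable {G : Type*} [Group G] [Finite G]

theorem irr_conj_apply {χ : G → ℂ} (hχ : IsIrrCharacter G χ) (a x : G) :
    χ (a * x * a⁻¹) = χ x := irr_isClassFunction hχ x a

theorem mul_eq_of_const {χ : G → ℂ} (hχ : IsIrrCharacter G χ) {x y : G} {c : ℂ}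
    (h : ∀ a, χ (a * x * a⁻¹ * y) = c) : χ 1 * c = χ x * χ y := by
  have := Fintype.ofFinite G
  have h1 := sum_conj_mul hχ x y
  have h2 := irr_one_ne_zero hχ
  have h3 : (Nat.card G : ℂ) ≠ 0 := by exact_mod_cast Nat.card_pos.ne'
  simp only [h, Finset.sum_const, Finset.card_univ, nsmul_eq_mul, ← Nat.card_eq_fintype_card] at h1
  field_simp at h1
  linear_combination h1

/-- An element killed by all nonlinear characters is conjugate to its whole coset of `G'`. -/
theorem isConj_of_anticentral {g z : G}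
    (h : ∀ χ, IsIrrCharacter G χ → χ 1 ≠ 1 → χ g = 0) (hz : g⁻¹ * z ∈ commutator G) :
    IsConj g z := by
  by_contra hn
  refine Nat.card_pos.ne' (Nat.cast_eq_zero.1 ((column_orthogonality_self g).symm.trans
    ((Finset.sum_congr rfl fun χ _ => Eq.symm ?_).trans (column_orthogonality_not_isConj hn))))
  by_cases h2 : (χ : G → ℂ) 1 = 1
  · rw [← char_mul_right_of_eq_one (irr_isCharacter χ.2) ((char_commutator_of_one_eq_one
      (irr_isCharacter χ.2) h2 hz).trans h2.symm) g, mul_inv_cancel_left]
  · rw [h _ χ.2 h2, zero_mul, zero_mul]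

theorem inv_mul_mem_commutator_of_isConj {g z : G} (h : IsConj g z) : g⁻¹ * z ∈ commutator G := by
  obtain ⟨c, rfl⟩ := isConj_iff.1 h
  have := Subgroup.commutator_mem_commutator (Subgroup.mem_top g⁻¹) (Subgroup.mem_top c)
  rwa [commutatorElement_def, inv_inv, mul_assoc, mul_assoc, ← mul_assoc c] at this

theorem card_centralizer_of_anticentral {g : G}
    (h : ∀ χ, IsIrrCharacter G χ → χ 1 ≠ 1 → χ g = 0) :
    Nat.card (Subgroup.centralizer ({g} : Set G)) = (commutator G).index := by
  classical
  rw [← card_linear_irr, Nat.card_eq_fintype_card (α := {_χ : IrrCharacter G // _}),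
    Fintype.card_subtype,
    ← Nat.cast_inj (R := ℂ), ← column_orthogonality_self, Finset.card_filter, Nat.cast_sum]
  refine Finset.sum_congr rfl fun χ _ => ?_
  split_ifs with h1
  · obtain ⟨l, hl⟩ := exists_hom_of_char_one_eq_one (irr_isCharacter χ.2) h1
    rw [hl, conj_hom, ← Units.val_mul, MonoidHom.inv_apply, mul_inv_cancel]; simp
  · simp [h _ χ.2 h1]

theorem eq_one_of_re_nonneg {g : G} (h : ∀ χ, IsIrrCharacter G χ → 0 ≤ (χ g).re) : g = 1 := by
  by_contra hg
  have h1 := congrArg Complex.re (sum_irr_one_mul hg)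
  rw [Complex.re_sum, Complex.zero_re, Finset.sum_eq_zero_iff_of_nonneg fun χ _ => by
    rw [← deg_cast', ← Complex.ofReal_natCast, Complex.re_ofReal_mul]
    exact mul_nonneg (Nat.cast_nonneg _) (h _ χ.2)] at h1
  simpa using h1 ⟨_, isIrrCharacter_one⟩ (Finset.mem_univ _)

/-- A self-centralizing involution outside a normal subgroup forces odd order. -/
theorem odd_card_of_fpf_invol {K : Subgroup G} [hK : K.Normal] {u : G} (hu : u * u = 1)
    (hf : ∀ k ∈ K, u * k = k * u → k = 1) : Odd (Nat.card K) := by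
  refine Nat.not_even_iff_odd.1 fun h => ?_
  obtain ⟨t, ht⟩ := exists_prime_orderOf_dvd_card' 2 h.two_dvd
  obtain ⟨m, -, e⟩ := exists_commutator_eq_of_fpf (fun k hk => hK.conj_mem k hk u) hf t.2
  have h1 : (t : G) * t = 1 := by
    rw [← pow_two, ← ht, ← Subgroup.coe_pow, pow_orderOf_eq_one]; rfl
  have h2 : u⁻¹ = u := inv_eq_of_mul_eq_one_right hu
  have h3 : u * t = t * u := by
    conv_rhs => rw [← inv_eq_of_mul_eq_one_right h1]
    simp only [← e, mul_inv_rev, inv_inv, h2, mul_assoc]
  rw [show t = 1 from Subtype.ext (hf _ t.2 h3), orderOf_one] at ht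
  omega

end H87
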