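import Mathlib
import Cfsg.Agent.Lib.Deg.Basic

/-!
Counting solutions of commutator equations with characters.
-/

set_option autoImplicit false

namespace H87

open Cfsg H6
open scoped ComplexConjugate

variable {G : Type*} [Group G]

/-- Frobenius' formula for the number of solutions of `[x, y] = z`. -/
theorem card_commutator_eq [Finite G] (z : G) :
    (Nat.card {xy : G × G // xy.1 * xy.2 * xy.1⁻¹ * xy.2⁻¹ = z} : ℂ) =
      (Nat.card G : ℂ) * ∑ χ : IrrCharacter G, (χ : G → ℂ) z / (χ : G → ℂ) 1 := by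
  have := Fintype.ofFinite G
  rw [card_fiber_eq_sum (fun xy : G × G => xy.1 * xy.2 * xy.1⁻¹ * xy.2⁻¹), Finset.mul_sum]
  · refine Finset.sum_congr rfl fun χ _ => ?_
    rw [Fintype.sum_prod_type]
    have h1 := sum_sum_commutator_mul χ.2 1
    simp only [mul_one] at h1
    have h2 := irr_one_ne_zero χ.2
    have h3 := card_ne_zero (G := G)
    rw [h1, map_div₀, map_mul, map_pow, map_pow, conj_one (irr_isCharacter χ.2), map_natCast]
    field_simp
  · intro g h
    refine Nat.card_congr (Equiv.subtypeEquiv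
      ((MulAut.conj h⁻¹).toEquiv.prodCongr (MulAut.conj h⁻¹).toEquiv) fun xy => ?_)
    simp only [Equiv.prodCongr_apply, Prod.map_fst, Prod.map_snd, MulEquiv.toEquiv_eq_coe,
      EquivLike.coe_coe, MulAut.conj_apply, inv_inv]
    constructor
    · intro h1
      have : g = h⁻¹ * (h * g * h⁻¹) * h := by group
      rw [this, ← h1]; group
    · intro h1
      rw [← h1]; group

/-- The number of solutions of `[a, b] [c, d] = z`. -/
theorem card_two_commutators_eq [Finite G] (z : G) :
    (Nat.card {x : (G × G) × (G × G) //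
      (x.1.1 * x.1.2 * x.1.1⁻¹ * x.1.2⁻¹) * (x.2.1 * x.2.2 * x.2.1⁻¹ * x.2.2⁻¹) = z} : ℂ) =
      (Nat.card G : ℂ) ^ 3 * ∑ χ : IrrCharacter G, (χ : G → ℂ) z / (χ : G → ℂ) 1 ^ 3 := by
  have := Fintype.ofFinite G
  rw [card_fiber_eq_sum (fun x : (G × G) × (G × G) =>
    (x.1.1 * x.1.2 * x.1.1⁻¹ * x.1.2⁻¹) * (x.2.1 * x.2.2 * x.2.1⁻¹ * x.2.2⁻¹)), Finset.mul_sum]
  · refine Finset.sum_congr rfl fun χ _ => ?_
    rw [Fintype.sum_prod_type, Finset.sum_comm]
    simp_rw [Fintype.sum_prod_type (f := fun x : G × G => (χ : G → ℂ) (x.1 * x.2 * x.1⁻¹ * x.2⁻¹ * _)),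
      sum_sum_commutator_mul χ.2, ← Finset.sum_div, ← Finset.mul_sum]
    rw [Fintype.sum_prod_type]
    have h1 := sum_sum_commutator_mul χ.2 1
    simp only [mul_one] at h1
    have h2 := irr_one_ne_zero χ.2
    have h3 := card_ne_zero (G := G)
    rw [h1]
    simp only [map_div₀, map_mul, map_pow, conj_one (irr_isCharacter χ.2), map_natCast]
    field_simp
  · intro g h
    refine Nat.card_congr (Equiv.subtypeEquiv
      (((MulAut.conj h⁻¹).toEquiv.prodCongr (MulAut.conj h⁻¹).toEquiv).prodCongr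
        ((MulAut.conj h⁻¹).toEquiv.prodCongr (MulAut.conj h⁻¹).toEquiv)) fun xy => ?_)
    simp only [Equiv.prodCongr_apply, Prod.map_fst, Prod.map_snd, MulEquiv.toEquiv_eq_coe,
      EquivLike.coe_coe, MulAut.conj_apply, inv_inv]
    constructor
    · intro h1
      have : g = h⁻¹ * (h * g * h⁻¹) * h := by group
      rw [this, ← h1]; group
    · intro h1
      rw [← h1]; group

end H87
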