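import Mathlib
import Cfsg.Agent.Lib.Deg.Cliff
import Cfsg.Agent.Lib.Deg.FS3
import Cfsg.Agent.Lib.PGroup.Basic
import Cfsg.Agent.Lib.Core.HallSZ
import Cfsg.Agent.Lib.Core.PCore

/-!
Maximal normal subgroups with nonabelian quotient (Isaacs 12.3, 12.4).
-/

set_option autoImplicit false

namespace H87

open Cfsg H6
open scoped ComplexConjugate commutatorElement

set_option linter.unusedSectionVars false

variable {G : Type*} [Group G] [Finite G]

/-- `K` is maximal among the normal subgroups with nonabelian quotient. -/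
structure MaxNA (K : Subgroup G) : Prop where
  normal : K.Normal
  not_le : ¬ commutator G ≤ K
  le_of_lt : ∀ L : Subgroup G, L.Normal → K < L → commutator G ≤ L

theorem exists_maxNA {L : Subgroup G} (hL : L.Normal) (h : ¬ commutator G ≤ L) :
    ∃ K, MaxNA K ∧ L ≤ K := by
  obtain ⟨K, h1, h2⟩ := exists_maximal_ge_of_wellFoundedGT
    (fun K : Subgroup G => K.Normal ∧ ¬ commutator G ≤ K) L ⟨hL, h⟩
  exact ⟨K, ⟨h2.1.1, h2.1.2, fun M hM hlt => not_not.1 fun hn =>
    hlt.not_ge (h2.2 ⟨hM, hn⟩ hlt.le)⟩, h1⟩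

/-- The `p`-group case. -/
structure CaseA (K : Subgroup G) (p : ℕ) (Z : Subgroup G) (τ : G → ℂ) : Prop where
  prime : p.Prime
  pow_mem : ∀ g, ∃ k, g ^ p ^ k ∈ K
  normal : Z.Normal
  mem_iff : ∀ z, z ∈ Z ↔ ∀ g, ⁅z, g⁆ ∈ K
  irr : IsIrrCharacter G τ
  ker : K ≤ charKer τ
  ne_one : charDegree τ ≠ 1
  sq : charDegree τ ^ 2 = Z.index
  norm : ∀ z ∈ Z, ‖τ z‖ = ‖τ 1‖
  vanish : ∀ g, g ∉ Z → τ g = 0

/-- The Frobenius case. -/
structure CaseB (K : Subgroup G) (p : ℕ) (N : Subgroup G) : Prop where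
  prime : p.Prime
  normal : N.Normal
  lt : K < N
  le : commutator G ≤ N
  comm : ∀ a ∈ N, ∀ b ∈ N, ⁅a, b⁆ ∈ K
  pow_mem : ∀ x ∈ N, x ^ p ∈ K
  not_dvd : ¬ p ∣ N.index
  ne_top : N ≠ ⊤
  fpf : ∀ g, g ∉ N → ∀ n ∈ N, ⁅g, n⁆ ∈ K → n ∈ K
  deg : ∃ τ, IsIrrCharacter G τ ∧ K ≤ charKer τ ∧ charDegree τ = N.index

theorem deg_sq_eq_index {χ : G → ℂ} (hχ : IsIrrCharacter G χ) {Z : Subgroup G}
    (h1 : ∀ z ∈ Z, ‖χ z‖ = ‖χ 1‖) (h2 : ∀ g, g ∉ Z → χ g = 0) : charDegree χ ^ 2 = Z.index := by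
  classical
  have := Fintype.ofFinite G
  have h := sum_norm_sq hχ
  rw [← Finset.sum_filter_add_sum_filter_not _ (· ∈ Z), Finset.sum_eq_zero
    (s := Finset.univ.filter (¬ · ∈ Z)) fun g hg => by simp [h2 g (Finset.mem_filter.1 hg).2],
    add_zero, Finset.sum_congr rfl fun g hg => by
      rw [h1 g (Finset.mem_filter.1 hg).2, norm_one_eq_deg (irr_isCharacter hχ)],
    Finset.sum_const, ← Fintype.card_subtype, ← Nat.card_eq_fintype_card, ← Z.card_mul_index,
    nsmul_eq_mul, Nat.cast_mul] at h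
  exact_mod_cast mul_left_cancel₀ (by exact_mod_cast Nat.card_pos.ne') h

theorem deg_sq_le_index {χ : G → ℂ} (hχ : IsIrrCharacter G χ) {Z : Subgroup G}
    (h1 : ∀ z ∈ Z, ‖χ z‖ = ‖χ 1‖) : charDegree χ ^ 2 ≤ Z.index := by
  classical
  have := Fintype.ofFinite G
  have h := Finset.sum_le_sum_of_subset_of_nonneg (f := fun g => ‖χ g‖ ^ 2)
    (Finset.filter_subset (· ∈ Z) Finset.univ) fun _ _ _ => sq_nonneg _
  rw [sum_norm_sq hχ, Finset.sum_congr rfl fun g hg => by
      rw [h1 g (Finset.mem_filter.1 hg).2, norm_one_eq_deg (irr_isCharacter hχ)],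
    Finset.sum_const, ← Fintype.card_subtype, ← Nat.card_eq_fintype_card, ← Z.card_mul_index,
    nsmul_eq_mul, Nat.cast_mul] at h
  exact_mod_cast le_of_mul_le_mul_left h (by exact_mod_cast Nat.card_pos)

theorem cases_bot (h : MaxNA (⊥ : Subgroup G))
    (hc : ∀ a ∈ commutator G, ∀ b ∈ commutator G, a * b = b * a) :
    (∃ p Z τ, CaseA (⊥ : Subgroup G) p Z τ) ∨ ∃ p N, CaseB (⊥ : Subgroup G) p N := by
  have hne : commutator G ≠ ⊥ := fun e => h.not_le e.le
  have hle : ∀ L : Subgroup G, L.Normal → L ≠ ⊥ → commutator G ≤ L := fun L h1 h2 =>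
    h.le_of_lt L h1 (bot_lt_iff_ne_bot.2 h2)
  have hmin : H3.IsMinNormal (commutator G) := ⟨inferInstance, hne, fun L h1 h2 =>
    (eq_or_ne L ⊥).imp id fun h3 => le_antisymm h2 (hle L h1 h3)⟩
  have : IsMulCommutative (commutator G) := ⟨⟨fun a b => Subtype.ext (hc a a.2 b b.2)⟩⟩
  obtain ⟨p, hp, hpd, hpow⟩ := hmin.exists_prime_pow_eq_one
  have := Fact.mk hp
  have hP := H3.isPGroup_of_pow_eq_one hpow
  obtain ⟨τ, hτ, hτk⟩ := exists_irr_not_le_charKer hne
  have hτb : charKer τ = ⊥ := not_not.1 fun e => hτk (hle _ inferInstance e)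
  have hτ1 : charDegree τ ≠ 1 := fun e =>
    hτk (commutator_le_charKer_of_deg_one (irr_isCharacter hτ) e)
  have hcm : ∀ a b : G, ⁅a, b⁆ ∈ commutator G := fun a b =>
    Subgroup.commutator_mem_commutator (Subgroup.mem_top a) (Subgroup.mem_top b)
  by_cases hZ : Subgroup.center G = ⊥
  · right
    have h1 : ∀ n ∈ commutator G, n ≠ 1 → ∀ g, g * n = n * g →
        ∀ m ∈ commutator G, g * m = m * g := fun n hn hn1 g hg m hm => by
      have : (commutator G ⊓ Subgroup.centralizer {g}).Normal := ⟨fun x hx y => ⟨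
        (inferInstance : (commutator G).Normal).conj_mem _ hx.1 y,
        Subgroup.mem_centralizer_singleton_iff.2 (by
          have e1 := Subgroup.mem_centralizer_singleton_iff.1 hx.2
          have e2 := hc _ hx.1 _ (hcm g⁻¹ y⁻¹)
          calc _ = y * (x * g) * ⁅g⁻¹, y⁻¹⁆ * y⁻¹ := by group
            _ = y * g * (x * ⁅g⁻¹, y⁻¹⁆) * y⁻¹ := by rw [e1]; group
            _ = _ := by rw [e2]; group)⟩⟩
      exact (Subgroup.mem_centralizer_singleton_iff.1 (hle _ this (fun e => hn1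
        (Subgroup.mem_bot.1 (e ▸ ⟨hn, Subgroup.mem_centralizer_singleton_iff.2 hg.symm⟩))) hm).2).symm
    obtain ⟨u, hu⟩ : ∃ u, ¬ ∀ m ∈ commutator G, u * m = m * u := by
      by_contra hn
      push Not at hn
      exact hne (eq_bot_iff.2 (hZ ▸ fun m hm => Subgroup.mem_center_iff.2 fun g => hn g m hm))
    have hf : ∀ k ∈ commutator G, u * k = k * u → k = 1 := fun k hk e =>
      not_not.1 fun hk1 => hu (h1 k hk hk1 u e)
    have hdec : ∀ g, ∃ m ∈ commutator G, ∃ c, g = m * c ∧ c * u = u * c := fun g => by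
      obtain ⟨m, hm, e⟩ := exists_commutator_eq_of_fpf
        (fun k hk => (inferInstance : (commutator G).Normal).conj_mem k hk u) hf (hcm g u)
      refine ⟨m, hm, m⁻¹ * g, by group, ?_⟩
      calc _ = m⁻¹ * ⁅g, u⁆ * u * g := by group
        _ = _ := by rw [← e]; group
    have h2 : ∀ n ∈ commutator G, n ≠ 1 → ∀ g, g * n = n * g → g ∈ commutator G :=
      fun n hn hn1 g hg => by
        obtain ⟨m, hm, c, rfl, hcu⟩ := hdec g
        have h3 : c ∈ Subgroup.center G := Subgroup.mem_center_iff.2 fun x => by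
          obtain ⟨m', hm', c', rfl, hcu'⟩ := hdec x
          have e1 : c * m' = m' * c := by
            apply mul_left_cancel (a := m)
            rw [← mul_assoc, h1 n hn hn1 _ hg m' hm', ← mul_assoc, ← mul_assoc, hc m hm m' hm']
          have e2 : c * c' = c' * c := commutatorElement_eq_one_iff_mul_comm.1 (hf _ (hcm c c')
            (((((show Commute c u from hcu).mul_left hcu').mul_left
              (show Commute c u from hcu).inv_left).mul_left
              (show Commute c' u from hcu').inv_left).symm))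
          rw [mul_assoc, ← e2, ← mul_assoc, ← e1, mul_assoc]
        rw [show c = 1 from Subgroup.mem_bot.1 (hZ ▸ h3), mul_one]; exact hm
    have := Fintype.ofFinite G
    refine ⟨p, commutator G, hp, inferInstance, bot_lt_iff_ne_bot.2 hne, le_rfl, fun a ha b hb =>
      commutatorElement_eq_one_iff_mul_comm.2 (hc a ha b hb), hpow, fun hd => ?_, fun e =>
      hu fun m hm => hc _ (e ▸ Subgroup.mem_top u) m hm, fun g hg n hn e => not_not.1 fun hn1 =>
      hg (h2 n hn hn1 g (commutatorElement_eq_one_iff_mul_comm.1 e)), τ, hτ, bot_le, ?_⟩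
    · obtain ⟨t, ht⟩ := exists_prime_orderOf_dvd_card' (G := G ⧸ commutator G) p hd
      obtain ⟨t, rfl⟩ := QuotientGroup.mk_surjective t
      obtain ⟨z, hz1, hz2, -, hz3⟩ := H5.exists_mem_centralizer_of_normalizes
        (P := Subgroup.zpowers t) (fun ⟨x, k, hk⟩ => ⟨2, Subtype.ext (by
          have : t ^ p ∈ commutator G := (QuotientGroup.eq_one_iff _).1 (by
            rw [QuotientGroup.mk_pow, ← ht, pow_orderOf_eq_one])
          show x ^ p ^ 2 = 1
          rw [← hk, ← zpow_natCast, ← zpow_mul, mul_comm, zpow_mul, zpow_natCast, sq, pow_mul,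
            hpow _ this, one_zpow])⟩) hP Subgroup.le_normalizer_of_normal hne
      have := (QuotientGroup.eq_one_iff t).2 (h2 z hz1 (fun e => hp.one_lt.ne' (by
        rw [← hz3, e, orderOf_one])) t (hz2 t (Subgroup.mem_zpowers t)))
      exact hp.one_lt.ne' (by rw [← ht, this, orderOf_one])
    · rcases H7.irr_cases_of_cent h2 hτ with h3 | ⟨θ, h3, -, rfl⟩
      · exact absurd (fun k hk => (mem_charKer (irr_isCharacter hτ)).2 (h3 k hk)) hτk
      · rw [deg_indFun _ (irr_isCharacter h3),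
          deg_eq_one_of_comm (fun a b => Subtype.ext (hc a a.2 b b.2)) h3, mul_one]
  · left
    have hZ' := hle _ inferInstance hZ
    have hnil : Group.IsNilpotent G := ⟨2, eq_top_iff.2 fun x _ =>
      Subgroup.mem_upperCentralSeries_succ_iff.2 fun y => by
        rw [Subgroup.upperCentralSeries_one]; exact hZ' (hcm x y)⟩
    have hG : IsPGroup p G := by
      refine (H1.isPiSubgroup_singleton_iff.1 (fun q hq hd => ?_ :
        IsPiSubgroup {p} (⊤ : Subgroup G))).of_equiv Subgroup.topEquiv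
      have := Fact.mk hq
      obtain ⟨Q⟩ := (inferInstance : Nonempty (Sylow q G))
      rw [Subgroup.card_top] at hd
      obtain ⟨k, hk⟩ := IsPGroup.iff_card.1 (Q.isPGroup'.to_le (hle _ inferInstance
        (Q.ne_bot_of_dvd_card hd)))
      exact ((Nat.prime_dvd_prime_iff_eq hp hq).1 (hp.dvd_of_dvd_pow (hk ▸ hpd))).symm
    have h1 : ∀ z ∈ Subgroup.center G, ‖τ z‖ = ‖τ 1‖ := fun z hz => norm_eq_of_mem_center hτ hz
    have h2 : ∀ g, g ∉ Subgroup.center G → τ g = 0 := fun g hg => by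
      obtain ⟨y, hy⟩ : ∃ y : G, ⁅y, g⁆ ≠ 1 := by
        by_contra hn
        push Not at hn
        exact hg (Subgroup.mem_center_iff.2 fun y =>
          commutatorElement_eq_one_iff_mul_comm.1 (hn y))
      obtain ⟨ω, hω⟩ := exists_mul_of_mem_center hτ (hZ' (hcm y g))
      have e1 := hω g
      rw [show ⁅y, g⁆ * g = y * g * y⁻¹ by group, irr_isClassFunction hτ] at e1
      by_contra h0
      have e2 := hω 1
      rw [← mul_right_cancel₀ h0 ((one_mul _).trans e1), mul_one, one_mul] at e2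
      exact hy ((charKer_eq_bot_iff (irr_isCharacter hτ)).1 hτb _ e2)
    exact ⟨p, Subgroup.center G, τ, hp, hG, inferInstance, fun z => by
      simp only [Subgroup.mem_center_iff, Subgroup.mem_bot, commutatorElement_eq_one_iff_mul_comm,
        eq_comm], hτ, bot_le, hτ1, deg_sq_eq_index hτ h1 h2, h1, h2⟩

theorem MaxNA.quotient {K : Subgroup G} [K.Normal] (h : MaxNA K) :
    MaxNA (⊥ : Subgroup (G ⧸ K)) := by
  have hf := QuotientGroup.mk'_surjective K
  have hc : (commutator G).map (QuotientGroup.mk' K) = commutator (G ⧸ K) := by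
    rw [map_commutator_eq, MonoidHom.range_eq_top.2 hf]; rfl
  refine ⟨inferInstance, fun hle => h.not_le ?_, fun L hL hlt => ?_⟩
  · rwa [← hc, Subgroup.map_le_iff_le_comap, MonoidHom.comap_bot, QuotientGroup.ker_mk'] at hle
  · rw [← hc, Subgroup.map_le_iff_le_comap]
    refine h.le_of_lt _ inferInstance ?_
    have := (Subgroup.comap_lt_comap_of_surjective hf).2 hlt
    rwa [MonoidHom.comap_bot, QuotientGroup.ker_mk'] at this

theorem MaxNA.cases {K : Subgroup G} (h : MaxNA K)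
    (hc : ∀ a ∈ commutator G, ∀ b ∈ commutator G, ⁅a, b⁆ ∈ K) :
    (∃ p Z τ, CaseA K p Z τ) ∨ ∃ p N, CaseB K p N := by
  have := h.normal
  have hf := QuotientGroup.mk'_surjective K
  have hm : (commutator G).map (QuotientGroup.mk' K) = commutator (G ⧸ K) := by
    rw [map_commutator_eq, MonoidHom.range_eq_top.2 hf]; rfl
  have e1 : ∀ g : G, (g : G ⧸ K) ∈ (⊥ : Subgroup (G ⧸ K)) ↔ g ∈ K := fun g =>
    QuotientGroup.eq_one_iff g
  rcases cases_bot h.quotient (by
    rw [← hm]
    rintro _ ⟨a, ha, rfl⟩ _ ⟨b, hb, rfl⟩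
    exact commutatorElement_eq_one_iff_mul_comm.1 ((e1 _).2 (hc a ha b hb))) with
    ⟨p, Z, τ, hA⟩ | ⟨p, N, hB⟩
  · refine Or.inl ⟨p, Z.comap (QuotientGroup.mk' K), fun g => τ g, hA.prime, fun g =>
      (hA.pow_mem g).imp fun k hk => (e1 _).1 hk, hA.normal.comap _, fun z =>
      (hA.mem_iff z).trans ⟨fun H g => (e1 _).1 (H g), fun H g => ?_⟩, isIrr_infl K hA.irr,
      le_charKer_infl K τ, hA.ne_one, hA.sq.trans (Subgroup.index_comap_of_surjective _ hf).symm,
      fun z hz => hA.norm _ hz, fun g hg => hA.vanish _ hg⟩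
    obtain ⟨g, rfl⟩ := QuotientGroup.mk_surjective g
    exact (e1 _).2 (H g)
  · obtain ⟨τ, h1, -, h3⟩ := hB.deg
    have hi := Subgroup.index_comap_of_surjective N hf
    refine Or.inr ⟨p, N.comap (QuotientGroup.mk' K), hB.prime, hB.normal.comap _, ?_,
      Subgroup.map_le_iff_le_comap.1 (hm ▸ hB.le), fun a ha b hb => (e1 _).1 (hB.comm _ ha _ hb),
      fun x hx => (e1 _).1 (hB.pow_mem _ hx), hi ▸ hB.not_dvd, fun e => hB.ne_top (by
        rw [← Subgroup.index_eq_one, ← hi, e, Subgroup.index_top]),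
      fun g hg n hn e => (e1 _).1 (hB.fpf _ hg _ hn ((e1 _).2 e)), fun g => τ g,
      isIrr_infl K h1, le_charKer_infl K τ, h3.trans hi.symm⟩
    have := (Subgroup.comap_lt_comap_of_surjective hf).2 hB.lt
    rwa [MonoidHom.comap_bot, QuotientGroup.ker_mk'] at this

theorem MaxNA.comm_of_isSolvable {K : Subgroup G} (h : MaxNA K) [K.Normal]
    (hs : Group.IsSolvable (G ⧸ K)) :
    ∀ a ∈ commutator G, ∀ b ∈ commutator G, ⁅a, b⁆ ∈ K := fun a ha b hb => by
  have hq := h.quotient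
  have hne : commutator (G ⧸ K) ≠ ⊥ := fun e => hq.not_le e.le
  have h1 := H3.commutator_self_lt_of_isSolvable (N := commutator (G ⧸ K)) inferInstance hne
  have h2 : ⁅commutator (G ⧸ K), commutator (G ⧸ K)⁆ = ⊥ := not_not.1 fun e =>
    h1.not_ge (hq.le_of_lt _ inferInstance (bot_lt_iff_ne_bot.2 e))
  have hm : (commutator G).map (QuotientGroup.mk' K) ≤ commutator (G ⧸ K) := by
    rw [map_commutator_eq]; exact Subgroup.commutator_mono le_top le_top
  exact (QuotientGroup.eq_one_iff _).1 (h2.le (Subgroup.commutator_mem_commutator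
    (hm ⟨a, ha, rfl⟩) (hm ⟨b, hb, rfl⟩)))

theorem MaxNA.cases_of_isSolvable [Group.IsSolvable G] {K : Subgroup G} (h : MaxNA K) :
    (∃ p Z τ, CaseA K p Z τ) ∨ ∃ p N, CaseB K p N :=
  haveI := h.normal
  h.cases (h.comm_of_isSolvable inferInstance)

end H87
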