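import Mathlib
import Cfsg.Agent.Lib.Deg.Struct

/-!
Consequences of the two cases of Isaacs 12.3 for character degrees (Isaacs 12.4).
-/

set_option autoImplicit false

namespace H87

open Cfsg H6
open scoped ComplexConjugate commutatorElement

set_option linter.unusedSectionVars false

variable {G : Type*} [Group G] [Finite G]

namespace CaseA

variable {K Z : Subgroup G} {p : ℕ} {τ : G → ℂ}

theorem le [hK : K.Normal] (h : CaseA K p Z τ) : K ≤ Z := fun k hk => (h.mem_iff k).2 fun g => by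
  rw [commutatorElement_def, mul_assoc, mul_assoc, ← mul_assoc g]
  exact mul_mem hk (hK.conj_mem _ (inv_mem hk) g)

theorem isPGroup [K.Normal] (h : CaseA K p Z τ) : IsPGroup p (G ⧸ K) := fun g => by
  obtain ⟨g, rfl⟩ := QuotientGroup.mk_surjective g
  exact (h.pow_mem g).imp fun k hk => (QuotientGroup.eq_one_iff _).2 hk

theorem index_eq [K.Normal] (h : CaseA K p Z τ) : ∃ k, Z.index = p ^ k := by
  have := Fact.mk h.prime
  obtain ⟨k, hk⟩ : ∃ k, K.index = p ^ k := IsPGroup.iff_card.1 h.isPGroup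
  obtain ⟨j, -, hj⟩ := (Nat.dvd_prime_pow h.prime).1 (hk ▸ Subgroup.index_dvd_of_le h.le)
  exact ⟨j, hj⟩

theorem deg_eq [K.Normal] (h : CaseA K p Z τ) : ∃ k, charDegree τ = p ^ (k + 1) := by
  obtain ⟨k, hk⟩ := h.index_eq
  obtain ⟨j, -, hj⟩ := (Nat.dvd_prime_pow h.prime).1
    (hk ▸ h.sq ▸ dvd_pow_self (charDegree τ) two_ne_zero)
  rcases j with _ | j
  · exact absurd hj h.ne_one
  · exact ⟨j, hj⟩

theorem one_lt (h : CaseA K p Z τ) : 1 < charDegree τ := by
  have := h.ne_one
  have := deg_pos h.irr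
  omega

theorem exists_deg_mul (h : CaseA K p Z τ) {χ : G → ℂ} (hχ : IsCharacter G χ)
    (hr : IsIrrCharacter Z (fun z : Z => χ z)) :
    ∃ η, IsIrrCharacter G η ∧ charDegree η = charDegree τ * charDegree χ := by
  classical
  have := Fintype.ofFinite G
  have hZ := Fintype.ofFinite Z
  have hτ := irr_isCharacter h.irr
  refine ⟨fun g => τ g * χ g, isIrr_of_char_of_inner_self (isCharacter_mul hτ hχ) ?_,
    deg_mul hτ hχ⟩
  apply mul_left_cancel₀ (card_ne_zero (G := G))
  have h1 : ∀ z : Z, τ z * χ z * conj (τ z * χ z) = Z.index * (χ z * conj (χ z)) := fun z => by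
    rw [map_mul, mul_mul_mul_comm, Complex.mul_conj, Complex.normSq_eq_norm_sq, h.norm z z.2,
      norm_one_eq_deg hτ, ← h.sq]
    push_cast; ring
  rw [card_mul_classInner, ← Finset.sum_filter_add_sum_filter_not _ (· ∈ Z), Finset.sum_eq_zero
    (s := Finset.univ.filter (¬ · ∈ Z)) fun g hg => by simp [h.vanish g (Finset.mem_filter.1 hg).2],
    add_zero, Finset.sum_subtype (F := hZ) (p := (· ∈ Z)) _ (by simp),
    Finset.sum_congr rfl fun z _ => h1 z, ← Finset.mul_sum, sum_mul_conj_self hr, mul_one,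
    ← Z.index_mul_card, Nat.cast_mul]

theorem exists_deg_mul_of_not_dvd [K.Normal] (h : CaseA K p Z τ) {χ : G → ℂ}
    (hχ : IsIrrCharacter G χ) (hp : ¬ p ∣ charDegree χ) :
    ∃ η, IsIrrCharacter G η ∧ charDegree η = charDegree τ * charDegree χ := by
  have := h.normal
  obtain ⟨k, hk⟩ := h.index_eq
  exact h.exists_deg_mul (irr_isCharacter hχ) (isIrr_res_of_coprime Z hχ
    (hk ▸ (((Nat.Prime.coprime_iff_not_dvd h.prime).2 hp).symm.pow_right k)))

/-- A character of `Z` whose degree is at least that of all characters above it cannot exist. -/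
theorem deg_lt (h : CaseA K p Z τ) {b : ℕ} (hb : ∀ χ, IsIrrCharacter G χ → charDegree χ ≤ b)
    {θ : Z → ℂ} (hθ : IsIrrCharacter Z θ) : charDegree τ * charDegree θ ≤ b ∨
      ∃ χ, IsIrrCharacter G χ ∧ Over Z χ θ ∧ charDegree θ < charDegree χ := by
  obtain ⟨χ, hχ, ho⟩ := exists_over hθ
  rcases lt_or_ge (charDegree θ) (charDegree χ) with hlt | hle
  · exact Or.inr ⟨χ, hχ, ho, hlt⟩
  · have e : (fun z : Z => χ z) = θ := funext (ho.eq_of_deg_le (irr_isCharacter hχ) hθ hle)
    obtain ⟨η, h1, h2⟩ := h.exists_deg_mul (irr_isCharacter hχ) (e ▸ hθ)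
    rw [← e, deg_res, ← h2]
    exact Or.inl (hb η h1)

end CaseA

namespace CaseB

variable {K N : Subgroup G} {p : ℕ}

theorem one_lt (h : CaseB K p N) : 1 < N.index := Subgroup.one_lt_index_of_ne_top h.ne_top

theorem relIndex_eq [K.Normal] (h : CaseB K p N) : ∃ k, K.relIndex N = p ^ (k + 1) := by
  have := Fact.mk h.prime
  obtain ⟨k, hk⟩ : ∃ k, K.relIndex N = p ^ k := IsPGroup.iff_card.1 (fun g : N ⧸ K.subgroupOf N => by
    obtain ⟨g, rfl⟩ := QuotientGroup.mk_surjective g
    exact ⟨1, (QuotientGroup.eq_one_iff _).2 (by rw [pow_one]; exact h.pow_mem g g.2)⟩)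
  rcases k with _ | k
  · exact absurd (Subgroup.relIndex_eq_one.1 hk) h.lt.not_ge
  · exact ⟨k, hk⟩

theorem deg_or_vanish [hK : K.Normal] (h : CaseB K p N) {ψ : N → ℂ} (hψ : IsIrrCharacter N ψ) :
    (∃ χ, IsIrrCharacter G χ ∧ charDegree χ = N.index * charDegree ψ) ∨
      ∀ n : N, (n : G) ∉ K → ψ n = 0 := by
  classical
  have hN := h.normal
  by_contra hcon
  push Not at hcon
  obtain ⟨h1, m0, hm0, hm1⟩ := hcon
  have h2 : ∀ l : N →* ℂˣ, ∃ x ∈ H7.inertia (fun n => ψ n * (l n : ℂ)), x ∉ N := fun l => by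
    by_contra hn
    push Not at hn
    obtain ⟨χ, h2, -, h3⟩ := exists_deg_eq_index_mul (isIrrCharacter_mul_hom hψ l) hn
    exact h1 χ h2 (by rw [h3, deg_mul_hom])
  choose x hx1 hx2 using h2
  let M : Subgroup N := K.subgroupOf N ⊔ Subgroup.closure {n | ψ n ≠ 0}
  have hind : ∀ {L : Subgroup N}, (∀ n : N, (n : G) ∈ K → n ∈ L) → (∀ n, ψ n ≠ 0 → n ∈ L) →
      M ≤ L := fun h1 h2 => sup_le h1 ((Subgroup.closure_le _).2 h2)
  have hM : ∀ l, ∀ m ∈ M, MulAut.conjNormal (x l) m ∈ M := fun l =>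
    hind (L := M.comap (MulAut.conjNormal (x l) : MulAut N).toMonoidHom)
      (fun n hn => Subgroup.mem_sup_left (hK.conj_mem _ hn (x l))) fun n hn =>
        Subgroup.mem_sup_right (Subgroup.subset_closure fun e => hn (by
          have := H7.mem_inertia'.1 (hx1 l) n
          rw [show ψ ⟨x l * n * (x l)⁻¹, _⟩ = 0 from e, zero_mul] at this
          exact (mul_eq_zero.1 this.symm).resolve_right (Units.ne_zero _)))
  let f := (QuotientGroup.mk' K).comp N.subtype
  have hcK : commutator N ≤ K.subgroupOf N := Subgroup.commutator_le.2 fun a _ b _ =>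
    h.comm a a.2 b b.2
  let F : (N →* ℂˣ) → G ⧸ K := fun l => f (MulAut.conjNormal (x l) m0)
  have key : ∀ l l' : N →* ℂˣ, (∀ n ∈ K.subgroupOf N, l n = 1) → (∀ n ∈ K.subgroupOf N, l' n = 1) →
      F l = F l' → ∀ m ∈ M, (l / l') m = 1 := fun l l' hl hl' e => by
    have h3 : (x l')⁻¹ * x l ∈ N := not_not.1 fun hn => hm0 (h.fpf _ hn _ m0.2 (by
      have := hK.conj_mem _ (QuotientGroup.eq.1 e.symm) (m0 * (x l')⁻¹)
      convert this using 1
      simp only [Subgroup.coe_subtype, MulAut.conjNormal_apply, commutatorElement_def]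
      group))
    have h4 : x l ∈ H7.inertia (fun n => ψ n * (l' n : ℂ)) := by
      simpa using mul_mem (hx1 l') (H7.le_inertia
        (irr_isClassFunction (isIrrCharacter_mul_hom hψ l')) h3)
    have h5 : M ≤ ((l / l').comp (MulAut.conjNormal (x l) : MulAut N).toMonoidHom).eqLocus
        (l / l') := hind (fun n hn => by
          show l _ / l' _ = l n / l' n
          rw [hl n hn, hl' n hn, hl _ (hK.conj_mem _ hn (x l)), hl' _ (hK.conj_mem _ hn (x l))])
        fun n hn => by
          have e1 : ψ (MulAut.conjNormal (x l) n) * l (MulAut.conjNormal (x l) n) = ψ n * l n :=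
            H7.mem_inertia'.1 (hx1 l) n
          have e2 : ψ (MulAut.conjNormal (x l) n) * l' (MulAut.conjNormal (x l) n) = ψ n * l' n :=
            H7.mem_inertia'.1 h4 n
          show l (MulAut.conjNormal (x l) n) / l' (MulAut.conjNormal (x l) n) = l n / l' n
          rw [div_eq_div_iff_mul_eq_mul]
          apply Units.ext
          apply mul_left_cancel₀ hn
          push_cast
          linear_combination (l' (MulAut.conjNormal (x l) n) : ℂ) * e1 -
            (l (MulAut.conjNormal (x l) n) : ℂ) * e2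
    intro m hm
    obtain ⟨_, ⟨a, ha, rfl⟩, e1⟩ := exists_commutator_eq_of_fpf (K := M.map f)
      (h := (x l : G ⧸ K)) (by
        rintro _ ⟨a, ha, rfl⟩
        exact ⟨_, hM l a ha, rfl⟩) (by
        rintro _ ⟨a, -, rfl⟩ e
        exact (QuotientGroup.eq_one_iff _).2 (h.fpf _ (hx2 l) _ a.2 ((QuotientGroup.eq_one_iff _).1
          (commutatorElement_eq_one_iff_mul_comm.2 e :)))) ⟨m, hm, rfl⟩
    have e2 : (a * MulAut.conjNormal (x l) a⁻¹)⁻¹ * m ∈ K.subgroupOf N := by
      refine (QuotientGroup.eq (s := K) (a := (a * MulAut.conjNormal (x l) a⁻¹ : N))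
        (b := m)).1 (Eq.trans ?_ e1)
      simp [f, mul_assoc]
    have e3 : (l / l') (MulAut.conjNormal (x l) a⁻¹) = (l / l') a⁻¹ := h5 (inv_mem ha)
    rw [← mul_inv_cancel_left (a * MulAut.conjNormal (x l) a⁻¹) m, map_mul, map_mul, e3,
      ← map_mul, mul_inv_cancel, map_one, one_mul, MonoidHom.div_apply, hl _ e2, hl' _ e2, div_one]
  have := Fintype.ofFinite (N →* ℂˣ)
  have := Fintype.ofFinite (G ⧸ K)
  have h3 := Finset.card_le_mul_card_image_of_maps_to (f := F)
    (s := Finset.univ.filter fun l : N →* ℂˣ => ∀ n ∈ K.subgroupOf N, l n = 1)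
    (t := (Finset.univ.filter (· ∈ M.map f)).erase 1) (fun l _ => Finset.mem_erase.2
      ⟨fun e => hm0 (by
        simpa [mul_assoc] using hK.conj_mem _ ((QuotientGroup.eq_one_iff _).1 e) (x l)⁻¹),
      Finset.mem_filter.2 ⟨Finset.mem_univ _, _, hM l _ (Subgroup.mem_sup_right
        (Subgroup.subset_closure hm1)), rfl⟩⟩) M.index fun b _ => by
      rw [← card_hom_trivial M (hcK.trans le_sup_left), Nat.card_eq_fintype_card,
        Fintype.card_subtype]
      rcases Finset.eq_empty_or_nonempty (Finset.filter (F · = b) (Finset.univ.filter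
        fun l : N →* ℂˣ => ∀ n ∈ K.subgroupOf N, l n = 1)) with e | ⟨l', hl'⟩
      · rw [e]; exact Nat.zero_le _
      simp only [Finset.mem_filter, Finset.mem_univ, true_and] at hl'
      refine Finset.card_le_card_of_injOn (· / l') (fun l hl => ?_) fun _ _ _ _ e =>
        div_left_injective e
      simp only [Finset.coe_filter, Finset.mem_filter, Finset.mem_univ, true_and,
        Set.mem_setOf_eq] at hl ⊢
      exact key l l' hl.1 hl'.1 (hl.2.trans hl'.2.symm)
  rw [← Fintype.card_subtype, ← Nat.card_eq_fintype_card, card_hom_trivial _ hcK,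
    Finset.card_erase_of_mem (Finset.mem_filter.2 ⟨Finset.mem_univ _, one_mem _⟩),
    ← Fintype.card_subtype, ← Nat.card_eq_fintype_card,
    ← Subgroup.relIndex_ker, ← Subgroup.relIndex_mul_index (le_sup_left : K.subgroupOf N ≤ M),
    show f.ker = K.subgroupOf N by
      rw [← MonoidHom.comap_ker, QuotientGroup.ker_mk']; rfl] at h3
  have h4 : 0 < M.index := Nat.pos_of_ne_zero Subgroup.index_ne_zero_of_finite
  have h5 : 0 < (K.subgroupOf N).relIndex M := Nat.pos_of_ne_zero Subgroup.index_ne_zero_of_finite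
  obtain ⟨r, hr⟩ := Nat.exists_eq_add_one_of_ne_zero h5.ne'
  rw [hr, Nat.add_sub_cancel] at h3
  nlinarith

theorem deg_or_dvd [K.Normal] (h : CaseB K p N) {ψ : N → ℂ} (hψ : IsIrrCharacter N ψ) :
    (∃ χ, IsIrrCharacter G χ ∧ charDegree χ = N.index * charDegree ψ) ∨ p ∣ charDegree ψ := by
  refine (h.deg_or_vanish hψ).imp id fun h1 => ?_
  obtain ⟨k, hk⟩ := h.relIndex_eq
  exact h.prime.dvd_of_dvd_pow ((hk ▸ dvd_pow_self p k.succ_ne_zero).trans
    (index_dvd_deg_sq_of_vanish (N := K.subgroupOf N) hψ h1))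

end CaseB

end H87
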