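import Mathlib
import Cfsg.Agent.Lib.Deg.Cliff
import Cfsg.Agent.Lib.Core.Hall
import Cfsg.Agent.Lib.Core.PCore
import Cfsg.Agent.Lib.FGS.ClassSize

/-!
Ito's theorem on normal abelian Sylow subgroups of `p`-solvable groups.
-/

set_option autoImplicit false

namespace H87

open Cfsg H6
open scoped ComplexConjugate commutatorElement Pointwise

set_option linter.unusedSectionVars false

universe u

variable {G : Type*} [Group G] [Finite G]

/-- A `p`-group fixing all irreducible characters of a normal `p'`-subgroup centralizes it. -/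
theorem le_centralizer_of_le_inertia {p : ℕ} [Fact p.Prime] {N P : Subgroup G} [N.Normal]
    (hP : IsPGroup p P) (hN : ¬ p ∣ Nat.card N)
    (h : ∀ θ, IsIrrCharacter N θ → P ≤ H7.inertia θ) : N ≤ Subgroup.centralizer (P : Set G) := by
  refine H80.le_of_forall_exists_conj_mem fun n hn => ?_
  obtain ⟨e, he, h1⟩ := H3.exists_conj_le_of_isPGroup (N := N)
    (K := Subgroup.centralizer {n}) Subgroup.le_normalizer_of_normal hP (fun x hx => by
      obtain ⟨m, hm⟩ := isConj_iff.1 ((isConj_iff_irr (⟨n, hn⟩ : N) _).2 fun θ =>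
        (H7.mem_inertia'.1 (h _ θ.2 hx) ⟨n, hn⟩).symm)
      have hm' : (m : G) * n * (m : G)⁻¹ = x * n * x⁻¹ := congrArg Subtype.val hm
      refine H3.mem_sup_iff_of_normal.2 ⟨m, m.2, (m : G)⁻¹ * x,
        Subgroup.mem_centralizer_singleton_iff.2 ?_, by group⟩
      calc _ = (m : G)⁻¹ * (x * n * x⁻¹) * x := by group
        _ = _ := by rw [← hm']; group) hN
  refine ⟨e⁻¹, inv_mem he, fun y hy => ?_⟩
  have := Subgroup.mem_centralizer_singleton_iff.1 (h1 (H3.conj_mem_conj_smul e hy))
  calc _ = e⁻¹ * (e * y * e⁻¹ * n) * e := by group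
    _ = _ := by rw [this]; group

theorem comm_of_normal_of_not_dvd {p : ℕ} [Fact p.Prime] {P : Subgroup G} [P.Normal]
    (hP : IsPGroup p P) (h : ∀ χ, IsIrrCharacter G χ → ¬ p ∣ charDegree χ) :
    ∀ a ∈ P, ∀ b ∈ P, a * b = b * a := fun a ha b hb =>
  congrArg Subtype.val (comm_of_forall_deg_eq_one (G := P) (fun θ hθ => by
    obtain ⟨χ, hχ, hd⟩ := exists_deg_dvd P hθ
    obtain ⟨k, hk⟩ := deg_pow_of_isPGroup hP hθ
    rcases k with _ | k
    · exact hk
    · exact absurd ((hk ▸ dvd_pow_self p k.succ_ne_zero).trans hd) (h χ hχ)) ⟨a, ha⟩ ⟨b, hb⟩)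

/-- If `N P` is normal for a normal `p'`-subgroup `N` and no degree is divisible by `p`, then the
Sylow subgroup `P` is normal. -/
theorem sylow_normal_of_sup_normal {p : ℕ} [Fact p.Prime] {N : Subgroup G} [N.Normal]
    (P : Sylow p G) (hN : ¬ p ∣ Nat.card N) (hn : (N ⊔ P : Subgroup G).Normal)
    (h : ∀ θ, IsIrrCharacter N θ → ¬ p ∣ (H7.inertia θ).index) : (P : Subgroup G).Normal := by
  have h1 := le_centralizer_of_le_inertia P.isPGroup' hN fun θ hθ x hx => by
    obtain ⟨t, -, ht⟩ := H3.exists_conj_le_of_isPGroup_of_not_dvd_relIndex (T := ⊤) P.isPGroup'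
      le_top (by rw [Subgroup.relIndex_top_right]; exact h θ hθ)
    obtain ⟨n, hn, y, hy, e⟩ := H3.mem_sup_iff_of_normal.1
      (hn.conj_mem x (Subgroup.mem_sup_right hx) t⁻¹)
    rw [show x = t * n * t⁻¹ * (t * y * t⁻¹) by
      rw [show t * n * t⁻¹ * (t * y * t⁻¹) = t * (n * y) * t⁻¹ by group, e]; group]
    exact mul_mem (H7.le_inertia (irr_isClassFunction hθ) (‹N.Normal›.conj_mem n hn t))
      (ht (H3.conj_mem_conj_smul t hy))
  rw [← Subgroup.normalizer_eq_top_iff, eq_top_iff,
    ← Sylow.normalizer_sup_eq_top' P (le_sup_right : (P : Subgroup G) ≤ N ⊔ P)]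
  exact sup_le le_rfl (sup_le (h1.trans (Subgroup.centralizer_le_normalizer _))
    Subgroup.le_normalizer)

theorem sylow_normal_of_not_dvd_deg {p : ℕ} [hp : Fact p.Prime] (hs : H3.IsPiSeparable {p} G)
    (h : ∀ χ, IsIrrCharacter G χ → ¬ p ∣ charDegree χ) (P : Sylow p G) :
    (P : Subgroup G).Normal := by
  have key := hs.induction (P := fun M => (M ⊔ P : Subgroup G).Normal) (by simp)
    (fun M L hM hL hlt h1 h2 => ?_) ⊥ inferInstance
  · simpa using key
  let f := QuotientGroup.mk' M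
  have hf : Function.Surjective f := QuotientGroup.mk'_surjective M
  have hc : (L.map f).comap f = L := by
    rw [Subgroup.comap_map_eq, QuotientGroup.ker_mk', sup_eq_left.2 hlt.le]
  have hcard : Nat.card (L.map f) = M.relIndex L := by
    rw [← Subgroup.relIndex_ker, QuotientGroup.ker_mk']
  have hLn := hL.map f hf
  have h3 : ((P.mapSurjective hf : Sylow p (G ⧸ M)) : Subgroup (G ⧸ M)).Normal := by
    have h4 : (L.map f ⊔ (P.mapSurjective hf : Sylow p (G ⧸ M)) : Subgroup (G ⧸ M)).Normal := by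
      rw [Sylow.coe_mapSurjective, ← Subgroup.map_sup]; exact h2.map f hf
    rcases h1 with h1 | h1
    · have : IsPGroup p (L.map f) := H1.isPiSubgroup_singleton_iff.1 (hcard ▸ h1 :)
      rwa [sup_eq_right.2 (this.le_sylow_of_normal _)] at h4
    · refine sylow_normal_of_sup_normal _ (fun hd => h1 p hp.out (hcard ▸ hd) rfl) h4
        fun θ hθ hd => ?_
      obtain ⟨χ, hχ, ho⟩ := exists_over hθ
      exact h _ (isIrr_infl M hχ)
        (hd.trans ((Dvd.intro _ rfl).trans (ho.index_inertia_mul_dvd hχ hθ)))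
  have := h3.comap f
  rwa [Sylow.coe_mapSurjective, Subgroup.comap_map_eq, QuotientGroup.ker_mk', sup_comm] at this

end H87
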