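import Mathlib
import Cfsg.Agent.Lib.Deg.Cliff
import Cfsg.Agent.Lib.Deg.Ito
import Cfsg.Agent.Lib.Char.GoingDown
import Cfsg.Agent.Lib.PGroup.Basic
import Cfsg.Agent.Lib.Core.Fitting

/-!
Taketa's theorem with derived length; groups with all degrees below a prime; the theorem of
Broline and Garrison.
-/

set_option autoImplicit false

namespace H87

open Cfsg H6
open scoped ComplexConjugate commutatorElement Pointwise

set_option linter.unusedSectionVars false

universe u

variable {G : Type*} [Group G] [Finite G]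

theorem finite_charDegrees : (charDegrees G).Finite := Set.finite_range _

theorem mem_charDegrees {χ : G → ℂ} (h : IsIrrCharacter G χ) : charDegree χ ∈ charDegrees G :=
  ⟨⟨χ, h⟩, rfl⟩

theorem one_mem_charDegrees : 1 ∈ charDegrees G := deg_one (G := G) ▸ mem_charDegrees isIrrCharacter_one

theorem charDegrees_quotient_subset (N : Subgroup G) [N.Normal] :
    charDegrees (G ⧸ N) ⊆ charDegrees G := by
  rintro _ ⟨χ, rfl⟩
  exact mem_charDegrees (isIrr_infl N χ.2)

theorem mem_of_forall_over_one {H : Subgroup G} {g : G}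
    (h : ∀ ψ, IsIrrCharacter G ψ → Over H ψ (fun _ => 1) → ψ g = ψ 1) : g ∈ H := by
  have := Fintype.ofFinite G
  obtain ⟨m, h1, h2, -⟩ := char_decomp (H7.isCharacter_indFun_one H)
  have h3 : indFun H (fun _ => 1) g = indFun H (fun _ => 1) 1 := by
    rw [h2, h2]
    refine Finset.sum_congr rfl fun ψ _ => ?_
    by_cases hm : m ψ = 0
    · simp [hm]
    · rw [h _ ψ.2 (over_of_inner_indFun (irr_isClassFunction ψ.2) (by
        rw [h1]; exact_mod_cast hm))]
  rw [H7.indFun_one_eq_card_fixedBy, H7.indFun_one_eq_card_fixedBy, MulAction.fixedBy_one_eq_univ,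
    Nat.cast_inj, Nat.card_univ, Nat.card_coe_set_eq] at h3
  have h4 : ((1 : G) : G ⧸ H) ∈ MulAction.fixedBy (G ⧸ H) g :=
    (Set.eq_univ_iff_ncard _).2 h3 ▸ Set.mem_univ _
  rw [MulAction.mem_fixedBy, MulAction.Quotient.smul_mk, QuotientGroup.eq] at h4
  simpa using h4

theorem taketa_step {H L : Subgroup G} [L.Normal] {χ θ : _} (hχ : IsIrrCharacter G χ)
    (hθ : IsIrrCharacter H θ) (h1 : charDegree θ = 1) (ho : Over H χ θ)
    (hd : H.index ≤ charDegree χ)
    (hL : ∀ ψ, IsIrrCharacter G ψ → charDegree ψ < charDegree χ → L ≤ charKer ψ) :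
    ⁅L, L⁆ ≤ charKer χ := by
  have := Fintype.ofFinite G
  have := Fintype.ofFinite H
  have hLH : L ≤ H := fun g hg => mem_of_forall_over_one fun ψ hψ h2 => by
    by_cases e : ψ = fun _ => 1
    · rw [e]
    refine (mem_charKer (irr_isCharacter hψ)).1 (hL ψ hψ (lt_of_lt_of_le (not_le.1 fun h3 => e ?_)
      hd) hg)
    have h4 := h2.eq_indFun hψ isCharacter_one (by rwa [deg_one, mul_one])
    refine irr_eq_of_inner_ne_zero hψ isIrrCharacter_one ?_
    rw [← h4, H7.classInner_indFun_left _ _ (fun _ _ => rfl), H7.classInner_one_one]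
    exact one_ne_zero
  refine ho.le_charKer hχ (irr_isCharacter hθ) _ ((Subgroup.commutator_le_left _ _).trans hLH)
    fun x hx => (mem_charKer (irr_isCharacter hθ)).1
      (commutator_le_charKer_of_deg_one (irr_isCharacter hθ) h1 ?_)
  have := Subgroup.commutator_mono hLH hLH hx
  rw [← Subgroup.map_subtype_commutator] at this
  obtain ⟨y, hy, e⟩ := this
  rwa [← Subtype.ext e]

/-- `G` is an M-group. -/
def IsM (G : Type*) [Group G] : Prop := ∀ χ, IsIrrCharacter G χ → ∃ (H : Subgroup G) (θ : H → ℂ),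
  IsIrrCharacter H θ ∧ charDegree θ = 1 ∧ Over H χ θ ∧ H.index ≤ charDegree χ

theorem IsM.derivedSeries_eq_bot (h : IsM G) {k : ℕ} (hk : (charDegrees G).ncard ≤ k) :
    derivedSeries G k = ⊥ := by
  have key : ∀ k χ, IsIrrCharacter G χ → {d ∈ charDegrees G | d < charDegree χ}.ncard < k →
      derivedSeries G k ≤ charKer χ := fun k => by
    induction k with
    | zero => exact fun χ _ h => absurd h (Nat.not_lt_zero _)
    | succ k ih =>
      intro χ hχ h1
      obtain ⟨H, θ, h2, h3, h4, h5⟩ := h χ hχ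
      refine taketa_step hχ h2 h3 h4 h5 fun ψ hψ hlt => ih ψ hψ (lt_of_lt_of_le
        (Set.ncard_lt_ncard ⟨fun d hd => ?_, fun hs => ?_⟩
          (finite_charDegrees.subset fun _ h => h.1)) (Nat.lt_succ_iff.1 h1))
      · exact ⟨hd.1, hd.2.trans hlt⟩
      · exact (hs ⟨mem_charDegrees hψ, hlt⟩).2.false
  exact eq_bot_of_forall_le_charKer fun χ hχ => key k χ hχ (lt_of_lt_of_le (Set.ncard_lt_ncard
    ⟨fun d hd => hd.1, fun hs => (hs (mem_charDegrees hχ)).2.false⟩ finite_charDegrees) hk)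

/-- An abelian normal subgroup with `p`-power index makes `G` an M-group. -/
theorem isM_of_index_pow {p : ℕ} (hp : p.Prime) (N : Subgroup G) [N.Normal]
    (hN : ∀ a ∈ N, ∀ b ∈ N, a * b = b * a) {k : ℕ} (hk : N.index = p ^ k) : IsM G := fun χ hχ => by
  have := Fintype.ofFinite G
  have := Fact.mk hp
  have hP : IsPGroup p (G ⧸ N) := IsPGroup.of_card hk
  obtain ⟨H, hNH, ψ, h1, rfl, h3⟩ := H31.relative_mgroup N ((H31.solvOver_iff N).2
    (H1.isSolvable_of_isPGroup hP)) (fun H K L hNL hLK hKH hK hL hmin => by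
      let f := QuotientGroup.mk' N
      obtain ⟨x, ⟨y, hy, rfl⟩, h1, h2, h3⟩ := H5.exists_step_of_le (hP.to_subgroup (H.map f))
        (L.map f) (Subgroup.map_mono hKH) (by
          rintro _ ⟨h, hh, rfl⟩
          refine H3.mem_normalizer_of_conj_mem ?_
          rintro _ ⟨k, hk, rfl⟩
          exact ⟨_, hK h hh k hk, rfl⟩) (N := K.map f) (fun hle => hLK.not_ge (by
            rwa [Subgroup.map_le_iff_le_comap, Subgroup.comap_map_eq, QuotientGroup.ker_mk',
              sup_eq_left.2 hNL] at hle))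
      have e : ∀ g, f g ∈ L.map f ↔ g ∈ L := fun g => by
        rw [← Subgroup.mem_comap, Subgroup.comap_map_eq, QuotientGroup.ker_mk', sup_eq_left.2 hNL]
      have hyn : y ∈ Subgroup.normalizer (L : Set G) :=
        H3.mem_normalizer_of_conj_mem (hL y (hKH hy))
      have h4 := H5.relIndex_sup_zpowers hp hyn (mt (e y).2 h1) ((e _).1 h2)
      rcases hmin (L ⊔ Subgroup.zpowers y) le_sup_left (sup_le hLK.le (Subgroup.zpowers_le.2 hy))
        (fun h hh m hm => by
          obtain ⟨l, hl, i, rfl⟩ := (H5.mem_sup_zpowers_iff hyn).1 hm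
          rw [show h * (l * y ^ i) * h⁻¹ = h * l * h⁻¹ * (⁅y, h⁆⁻¹ * y) ^ i by
            rw [show ⁅y, h⁆⁻¹ * y = h * y * h⁻¹ by group, conj_zpow]; group]
          exact mul_mem (Subgroup.mem_sup_left (hL h hh l hl)) (zpow_mem (mul_mem
            (Subgroup.mem_sup_left (inv_mem ((e _).1 (h3 _ ⟨h, hh, rfl⟩))))
            (Subgroup.mem_sup_right (Subgroup.mem_zpowers y))) i)) with h5 | h5
      · exact absurd ((e y).2 (h5 ▸ Subgroup.mem_sup_right (Subgroup.mem_zpowers y))) h1
      · rw [← h5, h4]; exact hp.not_isSquare) hχ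
  have h4 : charDegree ψ = 1 :=
    deg_eq_one_of_comm (G := N) (fun a b => Subtype.ext (hN a a.2 b b.2)) h3
  exact ⟨H, ψ, h1, h4, over_indFun_self h1, by rw [deg_indFun _ (irr_isCharacter h1), h4, mul_one]⟩

theorem isM_of_isPGroup {p : ℕ} (hp : p.Prime) (h : IsPGroup p G) : IsM G := by
  have := Fact.mk hp
  obtain ⟨k, hk⟩ := IsPGroup.iff_card.1 h
  exact isM_of_index_pow hp ⊥ (by simp) (Subgroup.index_bot.trans hk)

/-! ### All degrees smaller than `p` -/

theorem comm_of_deg_lt {p : ℕ} [Fact p.Prime] {P : Subgroup G} (hP : IsPGroup p P)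
    (h : ∀ χ, IsIrrCharacter G χ → charDegree χ < p) : ∀ a ∈ P, ∀ b ∈ P, a * b = b * a :=
  fun a ha b hb => congrArg Subtype.val (comm_of_forall_deg_eq_one (G := P) (fun θ hθ => by
    obtain ⟨χ, hχ, hd⟩ := exists_deg_le hθ
    obtain ⟨k, hk⟩ := deg_pow_of_isPGroup hP hθ
    rcases k with _ | k
    · exact hk
    · exact absurd ((Nat.le_self_pow k.succ_ne_zero p).trans (hk ▸ hd)) (h χ hχ).not_ge)
    ⟨a, ha⟩ ⟨b, hb⟩)

/-- A TI Sylow `p`-subgroup is normal if all degrees are smaller than `p`. -/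
theorem sylow_normal_of_TI {p : ℕ} [hp : Fact p.Prime] (P : Sylow p G)
    (hTI : ∀ y ∈ (P : Subgroup G), y ≠ 1 → ∀ g, g⁻¹ * y * g ∈ (P : Subgroup G) →
      g ∈ Subgroup.normalizer ((P : Subgroup G) : Set G))
    (h : ∀ χ, IsIrrCharacter G χ → charDegree χ < p) : (P : Subgroup G).Normal := by
  classical
  by_cases hP : (P : Subgroup G) = ⊥
  · rw [hP]; infer_instance
  have := Fintype.ofFinite G
  set N := Subgroup.normalizer ((P : Subgroup G) : Set G)
  have := Fintype.ofFinite N
  have := Fintype.ofFinite P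
  have hPN : (P : Subgroup G) ≤ N := Subgroup.le_normalizer
  have h1 : ∀ y ∈ (P : Subgroup G), y ≠ 1 → indFun N (fun _ => 1) y = 1 := fun y hy hy1 => by
    rw [H7.indFun_apply_eq_of_forall_not_mem N (fun _ _ => rfl) y fun g hg =>
      H7.extendByZero_of_not_mem _ _ fun h2 => hg (hTI y hy hy1 g ?_),
      H7.extendByZero_of_mem _ _ (hPN hy)]
    obtain ⟨k, hk⟩ := P.isPGroup' ⟨y, hy⟩
    have h3 : IsPGroup p (Subgroup.zpowers (g⁻¹ * y * g)) := IsPGroup.of_card_dvd_pow (n := k) (by
      rw [Nat.card_zpowers]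
      refine orderOf_dvd_of_pow_eq_one ?_
      rw [show g⁻¹ * y * g = g⁻¹ * y * g⁻¹⁻¹ by group, conj_pow,
        show y ^ p ^ k = 1 from congrArg Subtype.val hk]; group)
    exact (h3.inf_normalizer_sylow P).le ⟨Subgroup.mem_zpowers _, h2⟩ |>.2
  have hη := isCharacter_sub_of_inner_ne_zero (H7.isCharacter_indFun_one N) isIrrCharacter_one (by
    rw [H7.classInner_indFun_left _ _ (fun _ _ => rfl), H7.classInner_one_one]; exact one_ne_zero)
  obtain ⟨m, hm1, hm2, hm3⟩ := char_decomp hη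
  choose e he using fun χ : IrrCharacter G => char_inner_nat
    (isCharacter_restrict (P : Subgroup G) (irr_isCharacter χ.2)) isCharacter_one
  have h2 : (charDegree (indFun N (fun _ => 1) - fun _ => 1) : ℂ) =
      (∑ χ, m χ * (Nat.card P * e χ) : ℕ) := by
    refine (deg_cast hη).trans ((Finset.sum_eq_single (s := Finset.univ) (1 : P)
      (f := fun y : P => (indFun N (fun _ => 1) - fun _ => 1 : G → ℂ) y) (fun y _ hy => by
        simp [h1 y y.2 fun e => hy (Subtype.ext e)]) (by simp)).symm.trans ?_)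
    simp only [hm2]
    rw [Finset.sum_comm, Nat.cast_sum]
    refine Finset.sum_congr rfl fun χ _ => ?_
    rw [Nat.cast_mul, Nat.cast_mul, ← he, card_mul_classInner, ← Finset.mul_sum]
    simp only [map_one, mul_one]
    rfl
  have h3 : ∑ χ, m χ * charDegree (χ : G → ℂ) = ∑ χ, m χ * (Nat.card P * e χ) := by
    rw [← hm3]; exact_mod_cast h2
  have h4 : ∀ χ, m χ ≠ 0 → charDegree (χ : G → ℂ) < Nat.card P * e χ := fun χ hm => by
    have hne : (χ : G → ℂ) ≠ fun _ => 1 := fun e => hm (by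
      have := hm1 χ
      rw [e, classInner_sub_left, H7.classInner_indFun_left _ _ (fun _ _ => rfl),
        H7.classInner_one_one, H7.classInner_one_one, sub_self] at this
      exact_mod_cast this.symm)
    have h5 : Over N (χ : G → ℂ) fun _ => 1 := over_of_inner_indFun (irr_isClassFunction χ.2) (by
      have := hm1 χ
      rw [classInner_sub_left, irr_inner_ne isIrrCharacter_one χ.2 hne.symm, sub_zero] at this
      rw [this]; exact_mod_cast hm)
    have h6 := over_iff.1 (h5.trans hPN (θ := fun _ => 1) (finsum_ne_zero_of_eq_mul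
      isIrrCharacter_one one_ne_zero fun _ => (one_mul _).symm) (irr_isCharacter χ.2)
      isIrrCharacter_one isCharacter_one)
    rw [he, Nat.cast_ne_zero] at h6
    obtain ⟨k, hk⟩ := IsPGroup.iff_card.1 P.isPGroup'
    have hk0 : k ≠ 0 := fun e => hP (Subgroup.card_eq_one.1 (by rw [hk, e, pow_zero]))
    exact (h _ χ.2).trans_le ((hk ▸ Nat.le_self_pow hk0 p).trans
      (Nat.le_mul_of_pos_right _ (Nat.pos_of_ne_zero h6)))
  have h5 : ∀ χ, m χ = 0 := by
    by_contra hn
    push Not at hn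
    obtain ⟨χ, hχ⟩ := hn
    refine (Finset.sum_lt_sum (fun ψ _ => ?_) ⟨χ, Finset.mem_univ _,
      Nat.mul_lt_mul_of_pos_left (h4 χ hχ) (Nat.pos_of_ne_zero hχ)⟩).ne h3
    by_cases e : m ψ = 0
    · simp [e]
    · exact Nat.mul_le_mul_left _ (h4 ψ e).le
  have h6 := hm2 1
  simp only [h5, Nat.cast_zero, zero_mul, Finset.sum_const_zero, Pi.sub_apply, H7.indFun_one,
    mul_one, sub_eq_zero, Nat.cast_eq_one, Subgroup.index_eq_one] at h6
  exact Subgroup.normalizer_eq_top_iff.1 h6

theorem sylow_normal_of_deg_lt_aux {p : ℕ} [hp : Fact p.Prime] (n : ℕ) :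
    ∀ (G : Type u) [Group G] [Finite G], Nat.card G = n →
      (∀ χ, IsIrrCharacter G χ → charDegree χ < p) → ∀ P : Sylow p G, (P : Subgroup G).Normal := by
  induction n using Nat.strong_induction_on with
  | _ n ih =>
  rintro G _ _ rfl h P
  by_cases hz : ∃ y ∈ (P : Subgroup G), y ≠ 1 ∧ y ∈ Subgroup.center G
  · obtain ⟨y, hy, hy1, hy2⟩ := hz
    have : (Subgroup.zpowers y).Normal := ⟨fun x hx g => by
      rwa [Subgroup.mem_center_iff.1 (Subgroup.zpowers_le.2 hy2 hx) g, mul_inv_cancel_right]⟩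
    have hf := QuotientGroup.mk'_surjective (Subgroup.zpowers y)
    have := (ih _ (H3.card_quotient_lt _ (by simpa using hy1)) _ rfl
      (fun χ hχ => h _ (isIrr_infl _ hχ)) (P.mapSurjective hf)).comap
      (QuotientGroup.mk' (Subgroup.zpowers y))
    rwa [Sylow.coe_mapSurjective, Subgroup.comap_map_eq, QuotientGroup.ker_mk',
      sup_eq_left.2 (Subgroup.zpowers_le.2 hy)] at this
  push Not at hz
  refine sylow_normal_of_TI P (fun y hy hy1 g hg => ?_) h
  have hC : ∀ Q : Sylow p G, y ∈ (Q : Subgroup G) → (Q : Subgroup G) ≤ Subgroup.centralizer {y} :=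
    fun Q hQ x hx => Subgroup.mem_centralizer_singleton_iff.2
      (comm_of_deg_lt Q.isPGroup' h x hx y hQ)
  have h1 := ih _ (H3.card_lt_of_ne_top (Subgroup.centralizer {y}) fun e => hz y hy hy1
    (Subgroup.mem_center_iff.2 fun x => Subgroup.mem_centralizer_singleton_iff.1
      (e ▸ Subgroup.mem_top x))) _ rfl (fun θ hθ => by
        obtain ⟨χ, hχ, hd⟩ := exists_deg_le hθ
        exact hd.trans_lt (h χ hχ)) (P.subtype (hC P hy))
  have h2 : y ∈ ((g • P : Sylow p G) : Subgroup G) := H4.mem_smul_sylow_iff.2 hg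
  have := Sylow.unique_of_normal _ h1
  exact Sylow.smul_eq_iff_mem_normalizer.1 (Sylow.subtype_injective
    (Subsingleton.elim ((g • P).subtype (hC _ h2)) (P.subtype (hC P hy))))

theorem sylow_normal_of_deg_lt {p : ℕ} [hp : Fact p.Prime]
    (h : ∀ χ, IsIrrCharacter G χ → charDegree χ < p) (P : Sylow p G) : (P : Subgroup G).Normal :=
  sylow_normal_of_deg_lt_aux _ G rfl h P

/-! ### Broline and Garrison -/

theorem exists_deg_lt_of_coatom {χ : G → ℂ} (hχ : IsIrrCharacter G χ) {H : Subgroup G}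
    (hH : IsCoatom H) (hK : ¬ charKer χ ≤ H) :
    (∃ ψ, IsIrrCharacter G ψ ∧ charDegree χ < charDegree ψ ∧ charKer ψ < charKer χ) ∨
      ∀ x ∈ H, χ x ≠ 0 → x ∈ H.normalCore := by
  have hres : ∀ ψ, IsIrrCharacter G ψ → ¬ charKer ψ ≤ H → IsIrrCharacter H fun x : H => ψ x :=
    fun ψ hψ hn => H31.isIrr_comp_of_scalar H.subtype hψ fun g => by
      obtain ⟨k, hk, a, ha, rfl⟩ := H7.exists_mul_of_sup_eq_top_left
        (hH.2 _ (right_lt_sup.2 hn)) g
      exact ⟨k, ⟨a, ha⟩, congrArg _ ((mem_charKer (irr_isCharacter hψ)).1 hk), rfl⟩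
  have hθ := hres χ hχ hK
  by_cases h : ∀ ψ, IsIrrCharacter G ψ → Over H ψ (fun x : H => χ x) → ∀ x : H, ψ x = χ x
  · exact Or.inr fun x hx h0 => mem_normalCore_of_forall_ext hθ h ⟨x, hx⟩ h0
  push Not at h
  obtain ⟨ψ, hψ, ho, x, hx⟩ := h
  have h1 : charKer ψ ≤ H := not_not.1 fun hn => by
    have := Fintype.ofFinite H
    exact hx (congrFun (irr_eq_of_inner_ne_zero (hres ψ hψ hn) hθ (over_iff.1 ho)) x)
  exact Or.inl ⟨ψ, hψ, not_le.1 fun hle => hx (ho.eq_of_deg_le (irr_isCharacter hψ) hθ hle x),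
    lt_of_le_not_ge (fun k hk => (mem_charKer (irr_isCharacter hχ)).2
      (ho.apply_eq_of_mem_ker (irr_isCharacter hψ) hθ (x := ⟨k, h1 hk⟩)
        ((mem_charKer (irr_isCharacter hψ)).1 hk))) fun h2 => hK (h2.trans h1)⟩

theorem eq_top_of_sylow_le_normalCore {p : ℕ} [Fact p.Prime] {L H : Subgroup G} [hL : L.Normal]
    (P : Sylow p L) (h1 : Subgroup.normalizer (((P : Subgroup L).map L.subtype : Subgroup G) : Set G)
      ≤ H) (h2 : (P : Subgroup L).map L.subtype ≤ H.normalCore) : H = ⊤ := by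
  have hP := P.isPGroup'.map L.subtype
  have h3 : (P : Subgroup L).map L.subtype ≤ H.normalCore ⊓ L :=
    le_inf h2 (Subgroup.map_subtype_le _)
  have h4 : ((P : Subgroup L).map L.subtype).relIndex L = (P : Subgroup L).index := by
    rw [Subgroup.relIndex, Subgroup.subgroupOf,
      Subgroup.comap_map_eq_self_of_injective L.subtype_injective]
  refine eq_top_iff.2 fun g _ => ?_
  obtain ⟨k, hk, h5⟩ := H4.exists_conj_le_of_not_dvd_relIndex (K := H.normalCore ⊓ L) hP
    (fun hd => P.not_dvd_index (h4 ▸ Subgroup.relIndex_mul_relIndex _ _ L h3 inf_le_right ▸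
      hd.mul_right _)) (H4.isPGroup_conj_smul hP g) (H3.conj_smul_le_iff.2 fun x hx =>
        (inferInstance : (H.normalCore ⊓ L).Normal).conj_mem _ (h3 hx) g)
  refine (H.mul_mem_cancel_left (H.normalCore_le hk.1)).1 (h1 (H3.mem_normalizer_of_conj_mem
    fun x hx => ?_))
  simpa [mul_assoc] using h5 _ (H3.conj_mem_conj_smul g hx)

theorem broline_garrison {χ : G → ℂ} (hχ : IsIrrCharacter G χ)
    (h : ¬ charKer χ ≤ fittingSubgroup G ∨ (charKer χ = fittingSubgroup G ∧
      Group.IsSolvable (G ⧸ charKer χ) ∧ charKer χ ≠ ⊤)) :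
    ∃ ψ, IsIrrCharacter G ψ ∧ charDegree χ < charDegree ψ ∧ charKer ψ < charKer χ := by
  classical
  have hk : ∀ x ∈ charKer χ, χ x ≠ 0 := fun x hx =>
    (mem_charKer (irr_isCharacter hχ)).1 hx ▸ irr_one_ne_zero hχ
  rcases h with h | ⟨h1, h2, h3⟩
  · obtain ⟨p, hp, P, hP⟩ : ∃ (p : ℕ) (_ : Fact p.Prime) (P : Sylow p (charKer χ)),
        ¬ (P : Subgroup (charKer χ)).Normal := by
      by_contra hn
      push Not at hn
      exact h (H1.le_fitting (H1.isNilpotent_of_sylow_normal fun p hp P => hn p hp P))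
    obtain ⟨H, hH, hle⟩ := (eq_top_or_exists_le_coatom (Subgroup.normalizer
      (((P : Subgroup (charKer χ)).map (charKer χ).subtype : Subgroup G) : Set G))).resolve_left
      fun e => hP (by
        have := (Subgroup.normalizer_eq_top_iff.1 e).comap (charKer χ).subtype
        rwa [Subgroup.comap_map_eq_self_of_injective (Subgroup.subtype_injective _)] at this)
    refine (exists_deg_lt_of_coatom hχ hH fun hK => hH.1 (eq_top_iff.2
      (P.normalizer_sup_eq_top ▸ sup_le hle hK))).resolve_right fun h2 => hH.1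
      (eq_top_of_sylow_le_normalCore P hle fun x hx => h2 x (hle (Subgroup.le_normalizer hx))
        (hk x (Subgroup.map_subtype_le _ hx)))
  obtain ⟨L, hL, -⟩ := H31.exists_chief_above (lt_top_iff_ne_top.2 h3)
  obtain ⟨p, hp, hpow⟩ := hL.exists_prime (hL.commutator_le ((H31.solvOver_iff _).2 h2))
  have := Fact.mk hp
  have := hL.normalK
  obtain ⟨P⟩ := (inferInstance : Nonempty (Sylow p L))
  have h4 : charKer χ ⊔ (P : Subgroup L).map L.subtype = L := by
    obtain ⟨j, hj⟩ := H31.relIndex_eq_pow_of_pow_mem hp hpow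
    have h5 : (charKer χ).subgroupOf L ⊔ P = ⊤ := Subgroup.index_eq_one.1
      (Nat.eq_one_of_dvd_coprimes (((Nat.Prime.coprime_iff_not_dvd hp).2
        P.not_dvd_index).pow_left j) (hj ▸ Subgroup.index_dvd_of_le le_sup_left)
        (Subgroup.index_dvd_of_le le_sup_right))
    have := congrArg (Subgroup.map L.subtype) h5
    rwa [Subgroup.map_sup, Subgroup.subgroupOf_map_subtype, inf_eq_left.2 hL.lt.le,
      ← MonoidHom.range_eq_map, Subgroup.range_subtype] at this
  obtain ⟨H, hH, hle⟩ := (eq_top_or_exists_le_coatom (Subgroup.normalizer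
    (((P : Subgroup L).map L.subtype : Subgroup G) : Set G))).resolve_left fun e => by
      have := Subgroup.normalizer_eq_top_iff.1 e
      refine hL.lt.not_ge (h1 ▸ H1.le_fitting (h4 ▸ H1.isNilpotent_sup_of_normal
        (H1.isNilpotent_of_le_fitting h1.le) (P.isPGroup'.map L.subtype).isNilpotent))
  have hPH := Subgroup.le_normalizer.trans hle
  refine (exists_deg_lt_of_coatom hχ hH fun hK => hH.1 (eq_top_iff.2
    (P.normalizer_sup_eq_top ▸ sup_le hle (h4 ▸ sup_le hK hPH)))).resolve_right fun h5 => ?_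
  rcases hL.eq_or_eq (charKer χ ⊔ H.normalCore ⊓ L) inferInstance le_sup_left
    (sup_le hL.lt.le inf_le_right) with h6 | h6
  · have := Fintype.ofFinite L
    have h7 := sum_normal_eq_zero hχ L hL.lt.not_ge
    rw [← Finset.sum_filter_add_sum_filter_not _ (fun x : L => (x : G) ∈ charKer χ),
      Finset.sum_eq_zero (s := Finset.univ.filter (fun x : L => ¬ (x : G) ∈ charKer χ)),
      add_zero, Finset.sum_congr rfl fun x hx =>
        (mem_charKer (irr_isCharacter hχ)).1 (Finset.mem_filter.1 hx).2, Finset.sum_const,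
      nsmul_eq_mul, mul_eq_zero, Nat.cast_eq_zero, Finset.card_eq_zero] at h7
    · exact h7.elim (Finset.ne_empty_of_mem (Finset.mem_filter.2 ⟨Finset.mem_univ 1, one_mem _⟩))
        (irr_one_ne_zero hχ)
    · intro x hx
      obtain ⟨y, hy, k, hk, e⟩ := H3.mem_sup_iff_of_normal'.1
        (((sup_comm _ _).trans h4).ge x.2)
      by_contra h0
      rw [← e, char_mul_right_of_eq_one (irr_isCharacter hχ)
        ((mem_charKer (irr_isCharacter hχ)).1 hk)] at h0
      exact (Finset.mem_filter.1 hx).2 (e ▸ mul_mem (h6.le (Subgroup.mem_sup_right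
        ⟨h5 y (hPH hy) h0, Subgroup.map_subtype_le _ hy⟩)) hk)
  · refine hH.1 (eq_top_of_sylow_le_normalCore P hle fun y hy => ?_)
    obtain ⟨k, hk', w, hw, rfl⟩ := H3.mem_sup_iff_of_normal.1 (h6.ge (Subgroup.map_subtype_le _ hy))
    exact mul_mem (h5 k ((H.mul_mem_cancel_right (H.normalCore_le hw.1)).1 (hPH hy)) (hk k hk'))
      hw.1

end H87
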