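import Mathlib
import Cfsg.Agent.Lib.Deg.Cliff
import Cfsg.Agent.Lib.Transfer.Residual

/-!
The conjugation action on `Irr(N)`, and Thompson's theorem on character degrees.
-/

set_option autoImplicit false

namespace H87

open Cfsg H6
open scoped ComplexConjugate commutatorElement

set_option linter.unusedSectionVars false

variable {G : Type*} [Group G]

/-- The conjugation action of `G` on `Irr(N)`. -/
@[reducible] def irrAct (N : Subgroup G) [N.Normal] : MulAction G (IrrCharacter N) where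
  smul g θ := ⟨H7.conjChar g⁻¹ (θ : N → ℂ), H7.isIrr_conjChar _ θ.2⟩
  one_smul θ := Subtype.ext (by
    show H7.conjChar (1 : G)⁻¹ (θ : N → ℂ) = θ
    rw [inv_one, H7.conjChar_one])
  mul_smul g h θ := Subtype.ext (by
    show H7.conjChar (g * h)⁻¹ (θ : N → ℂ) = H7.conjChar g⁻¹ (H7.conjChar h⁻¹ (θ : N → ℂ))
    rw [mul_inv_rev, H7.conjChar_mul])

theorem irrAct_coe {N : Subgroup G} [N.Normal] (g : G) (θ : IrrCharacter N) :
    letI := irrAct N
    ((g • θ : IrrCharacter N) : N → ℂ) = H7.conjChar g⁻¹ (θ : N → ℂ) := rfl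

theorem irrAct_stabilizer {N : Subgroup G} [N.Normal] (θ : IrrCharacter N) :
    letI := irrAct N
    MulAction.stabilizer G θ = H7.inertia (θ : N → ℂ) := by
  letI := irrAct N
  ext g
  rw [MulAction.mem_stabilizer_iff, Subtype.ext_iff, irrAct_coe, ← H7.mem_inertia, inv_mem_iff]

theorem dvd_sum_of_orbits {X : Type*} [Fintype X] [MulAction G X] (f : X → ℤ)
    (hf : ∀ (g : G) x, f (g • x) = f x) {p : ℕ}
    (h : ∀ x, f x ≠ 0 → p ∣ (MulAction.stabilizer G x).index) : (p : ℤ) ∣ ∑ x, f x := by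
  classical
  have := Fintype.ofFinite (MulAction.orbitRel.Quotient G X)
  rw [← Finset.sum_fiberwise Finset.univ
    (fun x => (Quotient.mk _ x : MulAction.orbitRel.Quotient G X))]
  refine Finset.dvd_sum fun q _ => ?_
  obtain ⟨x, rfl⟩ := Quotient.exists_rep q
  have h1 : (Finset.univ.filter fun y => (Quotient.mk _ y : MulAction.orbitRel.Quotient G X) =
      Quotient.mk _ x) = (MulAction.orbit G x).toFinset := by
    ext y
    simp only [Finset.mem_filter, Finset.mem_univ, true_and, Set.mem_toFinset]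
    exact Quotient.eq
  rw [h1, Finset.sum_congr rfl (g := fun _ => f x) fun y hy => by
    obtain ⟨g, rfl⟩ := Set.mem_toFinset.1 hy
    exact hf g x, Finset.sum_const, nsmul_eq_mul]
  by_cases h0 : f x = 0
  · simp [h0]
  · refine Dvd.dvd.mul_right (Int.natCast_dvd_natCast.2 ?_) _
    rw [← Set.ncard_eq_toFinset_card', ← MulAction.index_stabilizer]
    exact h x h0

variable [Finite G]

theorem not_dvd_orderOf_hom {p : ℕ} (hp : p.Prime) (h : pResidual p G = ⊤) (lam : G →* ℂˣ) :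
    ¬ p ∣ orderOf lam := fun hd => by
  obtain ⟨m, hm⟩ := hd
  have h0 : 0 < orderOf lam := orderOf_pos lam
  have h1 : pResidual p G ≤ (lam ^ m).ker := H4.pResidual_le_iff.2 fun g hg => by
    rw [MonoidHom.mem_ker, ← orderOf_eq_one_iff]
    refine Nat.Coprime.eq_one_of_dvd (hg.coprime_dvd_left (orderOf_map_dvd _ g))
      (orderOf_dvd_of_pow_eq_one ?_)
    rw [← MonoidHom.pow_apply, ← pow_mul, mul_comm, ← hm, pow_orderOf_eq_one, MonoidHom.one_apply]
  have h2 : lam ^ m = 1 := MonoidHom.ext fun g => h1 (h ▸ Subgroup.mem_top g)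
  have h3 : 0 < m := Nat.pos_of_ne_zero (by rintro rfl; simp [hm] at h0)
  have := Nat.le_of_dvd h3 (orderOf_dvd_of_pow_eq_one (x := lam) h2)
  have := hp.one_lt
  nlinarith

open Classical in
theorem card_pResidual_modEq {p : ℕ} (hp : p.Prime) : (Nat.card (pResidual p G) : ℤ) ≡
    ∑ χ ∈ Finset.univ.filter (fun χ : IrrCharacter G => ¬ p ∣ charDegree (χ : G → ℂ) ∧
      ¬ p ∣ detOrder (χ : G → ℂ)), (charDegree (χ : G → ℂ) : ℤ) ^ 2 [ZMOD p] := by
  have := Fact.mk hp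
  set N := pResidual p G
  have hN : N.Normal := H4.pResidual_normal p G
  obtain ⟨k, hk⟩ : ∃ k, N.index = p ^ k := H4.index_pResidual_eq_pow p
  have hcop : ∀ n, ¬ p ∣ n → Nat.Coprime N.index n := fun n hn =>
    hk ▸ ((Nat.Prime.coprime_iff_not_dvd hp).2 hn).pow_left k
  have hdet : ∀ θ : N → ℂ, ¬ p ∣ detOrder θ := fun θ => by
    rw [H31.detOrder_eq]; exact not_dvd_orderOf_hom hp (H4.pResidual_pResidual p G) _
  have hcan := fun (θ : N → ℂ) (hθ : IsIrrCharacter N θ) (h1 : H7.inertia θ = ⊤)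
    (h2 : ¬ p ∣ charDegree θ) => H31.exists_canonical_ext N hθ (H7.inertia_eq_top_iff.1 h1)
      (irr_deg_cast hθ).symm (hcop _ (hp.not_dvd_mul (hdet θ) h2))
  have h1 : ∑ χ ∈ Finset.univ.filter (fun χ : IrrCharacter G => ¬ p ∣ charDegree (χ : G → ℂ) ∧
      ¬ p ∣ detOrder (χ : G → ℂ)), (charDegree (χ : G → ℂ) : ℤ) ^ 2 =
      ∑ θ ∈ Finset.univ.filter (fun θ : IrrCharacter N => ¬ p ∣ charDegree (θ : N → ℂ) ∧
      H7.inertia (θ : N → ℂ) = ⊤), (charDegree (θ : N → ℂ) : ℤ) ^ 2 := by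
    refine Finset.sum_bij (fun χ hχ => ⟨fun n : N => (χ : G → ℂ) n, isIrr_res_of_coprime N χ.2
      (hcop _ (Finset.mem_filter.1 hχ).2.1).symm⟩) (fun χ hχ => Finset.mem_filter.2
      ⟨Finset.mem_univ _, (Finset.mem_filter.1 hχ).2.1,
        inertia_res_eq_top (irr_isClassFunction χ.2)⟩) (fun χ hχ ψ hψ e => ?_)
      (fun θ hθ => ?_) fun χ hχ => rfl
    · obtain ⟨-, hχ1, hχ2⟩ := Finset.mem_filter.1 hχ
      obtain ⟨η, -, hη⟩ := hcan _ (isIrr_res_of_coprime N χ.2 (hcop _ hχ1).symm)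
        (inertia_res_eq_top (irr_isClassFunction χ.2)) hχ1
      exact Subtype.ext ((hη _ χ.2 (fun _ => rfl) (hcop _ hχ2)).trans (hη _ ψ.2
        (fun n => (congrFun (congrArg Subtype.val e) n).symm)
        (hcop _ (Finset.mem_filter.1 hψ).2.2)).symm)
    · obtain ⟨-, hθ1, hθ2⟩ := Finset.mem_filter.1 hθ
      obtain ⟨η, ⟨h1, h2, h3⟩, -⟩ := hcan _ θ.2 hθ2 hθ1
      exact ⟨⟨η, h1⟩, Finset.mem_filter.2 ⟨Finset.mem_univ _, by
        rwa [deg_congr (ψ := (θ : N → ℂ)) (h2 1)], h3 ▸ hdet _⟩, Subtype.ext (funext h2)⟩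
  rw [h1, ← sum_deg_sq, Nat.cast_sum, Finset.sum_filter]
  refine Int.ModEq.symm (Int.modEq_iff_dvd.2 ?_)
  rw [← Finset.sum_sub_distrib]
  have h2 : ∀ θ : IrrCharacter N, ((charDegree (θ : N → ℂ) ^ 2 : ℕ) : ℤ) -
      (if ¬ p ∣ charDegree (θ : N → ℂ) ∧ H7.inertia (θ : N → ℂ) = ⊤ then
        (charDegree (θ : N → ℂ) : ℤ) ^ 2 else 0) =
      (if p ∣ charDegree (θ : N → ℂ) then (charDegree (θ : N → ℂ) : ℤ) ^ 2 else 0) +
      (if ¬ p ∣ charDegree (θ : N → ℂ) ∧ H7.inertia (θ : N → ℂ) ≠ ⊤ then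
        (charDegree (θ : N → ℂ) : ℤ) ^ 2 else 0) := fun θ => by
    by_cases h1 : p ∣ charDegree (θ : N → ℂ) <;> by_cases h2 : H7.inertia (θ : N → ℂ) = ⊤ <;>
      simp [h1, h2]
  rw [Finset.sum_congr rfl fun θ _ => h2 θ, Finset.sum_add_distrib]
  refine dvd_add (Finset.dvd_sum fun θ _ => ?_) ?_
  · split_ifs with h
    · exact dvd_pow (Int.natCast_dvd_natCast.2 h) two_ne_zero
    · exact dvd_zero _
  · letI := irrAct N
    refine dvd_sum_of_orbits (G := G) _ (fun g θ => ?_) fun θ h => ?_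
    · have e1 : charDegree ((g • θ : IrrCharacter N) : N → ℂ) = charDegree (θ : N → ℂ) :=
        deg_congr (H7.conjChar_apply_one _ _)
      have e2 : H7.inertia ((g • θ : IrrCharacter N) : N → ℂ) = ⊤ ↔
          H7.inertia (θ : N → ℂ) = ⊤ := by
        rw [← irrAct_stabilizer, ← irrAct_stabilizer, ← Subgroup.index_eq_one,
          ← Subgroup.index_eq_one, MulAction.index_stabilizer, MulAction.index_stabilizer,
          MulAction.orbit_smul]
      simp only [e1, ne_eq, e2]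
    · rw [irrAct_stabilizer]
      obtain ⟨j, -, hj⟩ := (Nat.dvd_prime_pow hp).1
        (hk ▸ Subgroup.index_dvd_of_le (H7.le_inertia (irr_isClassFunction θ.2)))
      rcases j with _ | j
      · exact absurd (Subgroup.index_eq_one.1 hj) fun e => h (by simp [e])
      · exact hj ▸ dvd_pow_self p j.succ_ne_zero

/-- Thompson's theorem on character degrees. -/
theorem not_dvd_card_pResidual {p : ℕ} (hp : p.Prime)
    (h : ∀ χ, IsIrrCharacter G χ → charDegree χ ≠ 1 → p ∣ charDegree χ) :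
    ¬ p ∣ Nat.card (pResidual p G) := fun hd => by
  classical
  have := Fact.mk hp
  have h1 := (card_pResidual_modEq (G := G) hp).symm.dvd
  let A : Subgroup (G →* ℂˣ) := ⟨⟨⟨{l | (orderOf l).Coprime p}, fun {a b} ha hb =>
    (Nat.Coprime.mul_left ha hb).coprime_dvd_left (Commute.all a b).orderOf_mul_dvd_mul_orderOf⟩,
    by simp⟩, fun {a} ha => by simpa using ha⟩
  have := Fintype.ofFinite A
  have h2 : ∑ χ ∈ Finset.univ.filter (fun χ : IrrCharacter G => ¬ p ∣ charDegree (χ : G → ℂ) ∧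
      ¬ p ∣ detOrder (χ : G → ℂ)), (charDegree (χ : G → ℂ) : ℤ) ^ 2 = ∑ l : A, 1 := by
    symm
    refine Finset.sum_bij (fun l _ => irrOfHom l.1) (fun l _ => Finset.mem_filter.2
      ⟨Finset.mem_univ _, ?_, ?_⟩) (fun l _ l' _ e => Subtype.ext (irrOfHom_injective e))
      (fun χ hχ => ?_) fun l _ => ?_
    · rw [show charDegree (irrOfHom l.1 : G → ℂ) = 1 from deg_hom _]; exact hp.not_dvd_one
    · rw [H31.detOrder_eq, show H31.detHom (irrOfHom l.1 : G → ℂ) = l.1 from H31.detHom_hom _]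
      exact (Nat.Prime.coprime_iff_not_dvd hp).1 (Nat.Coprime.symm l.2)
    · obtain ⟨-, h3, h4⟩ := Finset.mem_filter.1 hχ
      obtain ⟨l, hl⟩ := (linearCharEquiv G).surjective ⟨χ, (deg_eq_one_iff (irr_isCharacter χ.2)).1
        (not_not.1 fun e => h3 (h _ χ.2 e))⟩
      obtain rfl : irrOfHom l = χ := congrArg Subtype.val hl
      rw [H31.detOrder_eq, show H31.detHom (irrOfHom l : G → ℂ) = l from H31.detHom_hom _] at h4
      exact ⟨⟨l, ((Nat.Prime.coprime_iff_not_dvd hp).2 h4).symm⟩, Finset.mem_univ _, rfl⟩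
    · rw [show charDegree (irrOfHom l.1 : G → ℂ) = 1 from deg_hom _]; simp
  rw [h2, Finset.sum_const, Finset.card_univ, nsmul_eq_mul, mul_one, ← Nat.card_eq_fintype_card,
    dvd_sub_right (Int.natCast_dvd_natCast.2 hd), Int.natCast_dvd_natCast] at h1
  obtain ⟨l, hl⟩ := exists_prime_orderOf_dvd_card' p h1
  have h3 : (orderOf (l : G →* ℂˣ)).Coprime p := l.2
  rw [Subgroup.orderOf_coe, hl, Nat.coprime_self] at h3
  exact hp.one_lt.ne' h3

theorem exists_complement_of_dvd_deg {p : ℕ} (hp : p.Prime)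
    (h : ∀ χ, IsIrrCharacter G χ → charDegree χ ≠ 1 → p ∣ charDegree χ) :
    ∃ N : Subgroup G, N.Normal ∧ (Nat.card N).Coprime p ∧ ∃ k : ℕ, N.index = p ^ k :=
  haveI := Fact.mk hp
  ⟨_, H4.pResidual_normal p G, ((Nat.Prime.coprime_iff_not_dvd hp).2
    (not_dvd_card_pResidual hp h)).symm, H4.index_pResidual_eq_pow p⟩

end H87
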