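import Mathlib
import Cfsg.Agent.Lib.Deg.Struct2
import Cfsg.Agent.Lib.Deg.Taketa
import Cfsg.Agent.Lib.Deg.Thompson

/-!
Groups with at most three character degrees are solvable of derived length at most three.
-/

set_option autoImplicit false

namespace H87

open Cfsg H6
open scoped ComplexConjugate commutatorElement Pointwise

set_option linter.unusedSectionVars false

universe u

variable {G : Type*} [Group G] [Finite G]

theorem commutator_le_of_forall_deg {L : Subgroup G} [L.Normal]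
    (h : ∀ β, IsIrrCharacter G β → L ≤ charKer β → charDegree β = 1) : commutator G ≤ L :=
  fun g hg => not_not.1 fun hn => by
    obtain ⟨β, h1, h2, h3⟩ := exists_irr_ker_of_not_mem L hn
    exact h3 (commutator_le_charKer_of_deg_one (irr_isCharacter h1) (h β h1 h2) hg)

theorem derivedSeries_add_le {H : Type*} [Group H] (f : H →* G) {j : ℕ}
    (h : derivedSeries G j ≤ f.range) (i : ℕ) :
    derivedSeries G (j + i) ≤ (derivedSeries H i).map f := by
  induction i with
  | zero => rwa [derivedSeries_zero, ← MonoidHom.range_eq_map]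
  | succ i ih =>
    rw [← add_assoc, derivedSeries_succ, derivedSeries_succ, Subgroup.map_commutator]
    exact Subgroup.commutator_mono ih ih

theorem derivedSeries_le_of_quotient {N : Subgroup G} [N.Normal] {j : ℕ}
    (h : derivedSeries (G ⧸ N) j = ⊥) : derivedSeries G j ≤ N := by
  have := map_derivedSeries_le_derivedSeries (QuotientGroup.mk' N) j
  rwa [h, le_bot_iff, Subgroup.map_eq_bot_iff, QuotientGroup.ker_mk'] at this

theorem isSolvable_quotient_of_commutator_le {N : Subgroup G} [N.Normal] (h : commutator G ≤ N) :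
    Group.IsSolvable (G ⧸ N) :=
  H2_isSolvable (Subgroup.Normal.quotient_commutative_iff_commutator_le.2 h)
where H2_isSolvable (h : IsMulCommutative (G ⧸ N)) : Group.IsSolvable (G ⧸ N) :=
  isSolvable_of_comm h.is_comm.comm

theorem Over.deg_eq_ordCompl {q k : ℕ} (hq : q.Prime) {N : Subgroup G} [N.Normal]
    (h1 : ¬ q ∣ Nat.card N) (h2 : N.index = q ^ k) {χ θ : _} (h : Over N χ θ)
    (hχ : IsIrrCharacter G χ) (hθ : IsIrrCharacter N θ) :
    charDegree θ = ordCompl[q] (charDegree χ) := by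
  obtain ⟨c, h3, h4⟩ := h.exists_deg_eq hχ hθ
  obtain ⟨j, -, rfl⟩ := (Nat.dvd_prime_pow hq).1 (h2 ▸ h4)
  rw [h3, Nat.ordCompl_pow_mul_of_not_dvd j hq fun hd => h1 (hd.trans (deg_dvd_card hθ))]

theorem charDegrees_subset_image {q k : ℕ} (hq : q.Prime) {N : Subgroup G} [N.Normal]
    (h1 : ¬ q ∣ Nat.card N) (h2 : N.index = q ^ k) :
    charDegrees N ⊆ (fun n => ordCompl[q] n) '' charDegrees G := by
  rintro _ ⟨θ, rfl⟩
  obtain ⟨χ, hχ, ho⟩ := exists_over θ.2
  exact ⟨_, mem_charDegrees hχ, (ho.deg_eq_ordCompl hq h1 h2 hχ θ.2).symm⟩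

open Classical in
theorem inner_mul_eq_zero_or {m n : ℕ} (hmn : m.Coprime n) (hm : m ≠ 1) (hn : n ≠ 1)
    (hcd : ∀ χ, IsIrrCharacter G χ → charDegree χ = 1 ∨ charDegree χ = m ∨ charDegree χ = n)
    [Fintype G] {χ ψ : G → ℂ} (hχ : IsIrrCharacter G χ) (hψ : IsIrrCharacter G ψ)
    (h1 : charDegree χ = m) (h2 : charDegree ψ = n) :
    (∀ η, IsIrrCharacter G η → classInner (fun g => χ g * ψ g) η ≠ 0 → charDegree η = m) ∨
    (∀ η, IsIrrCharacter G η → classInner (fun g => χ g * ψ g) η ≠ 0 → charDegree η = n) := by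
  have hc := isCharacter_mul (irr_isCharacter hχ) (irr_isCharacter hψ)
  obtain ⟨a, h3, -, h4⟩ := char_decomp hc
  have hne : m ≠ n := fun e => hm (by rwa [← e, Nat.coprime_self] at hmn)
  have h5 : ∀ η : IrrCharacter G, a η ≠ 0 → charDegree (η : G → ℂ) = m ∨
      charDegree (η : G → ℂ) = n := fun η ha => (hcd _ η.2).resolve_left fun e => by
    obtain ⟨l, hl⟩ := (linearCharEquiv G).surjective ⟨η, (deg_eq_one_iff (irr_isCharacter η.2)).1 e⟩
    obtain rfl : irrOfHom l = η := congrArg Subtype.val hl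
    have h6 : classInner (fun g => χ g * ψ g) (fun g => (l g : ℂ)) ≠ 0 := by
      rw [show classInner (fun g => χ g * ψ g) (fun g => (l g : ℂ)) = _ from h3 (irrOfHom l)]
      exact_mod_cast ha
    rw [H7.classInner_mul_left] at h6
    have := irr_eq_of_inner_ne_zero hχ (isIrrCharacter_mul_hom (isIrrCharacter_conj hψ) l) h6
    rw [this, deg_mul_hom, deg_conj (irr_isCharacter hψ), h2] at h1
    exact hne h1.symm
  set A := ∑ η ∈ Finset.univ.filter (fun η : IrrCharacter G => charDegree (η : G → ℂ) = m), a η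
    with hA
  set B := ∑ η ∈ Finset.univ.filter (fun η : IrrCharacter G => charDegree (η : G → ℂ) = n), a η
    with hB
  have h6 : m * n = A * m + B * n := by
    rw [← h1, ← h2, ← show charDegree (χ * ψ) = _ from deg_mul (irr_isCharacter hχ)
      (irr_isCharacter hψ), h4, h1, h2, hA, hB, Finset.sum_mul, Finset.sum_mul, Finset.sum_filter,
      Finset.sum_filter, ← Finset.sum_add_distrib]
    refine Finset.sum_congr rfl fun η _ => ?_
    by_cases ha : a η = 0
    · simp [ha]
    rcases h5 η ha with e | e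
    · simp [e, hne]
    · simp [e, hne.symm]
  have h7 : ∀ η, IsIrrCharacter G η → classInner (fun g => χ g * ψ g) η ≠ 0 → ∀ hη, a ⟨η, hη⟩ ≠ 0 :=
    fun η _ h hη e => h ((h3 ⟨η, hη⟩).trans (by rw [e, Nat.cast_zero]))
  have hm0 : 0 < m := h1 ▸ deg_pos hχ
  have hn0 : 0 < n := h2 ▸ deg_pos hψ
  by_cases hA0 : A = 0
  · refine Or.inr fun η hη h => (h5 ⟨η, hη⟩ (h7 η hη h hη)).resolve_left fun e => h7 η hη h hη
      (Finset.sum_eq_zero_iff.1 hA0 _ (Finset.mem_filter.2 ⟨Finset.mem_univ _, e⟩))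
  · have h8 : n ≤ A := Nat.le_of_dvd (Nat.pos_of_ne_zero hA0) (hmn.symm.dvd_of_dvd_mul_right
      ((Nat.dvd_add_left (Dvd.intro_left B rfl)).1 (h6 ▸ Dvd.intro_left m rfl)))
    have hB0 : B = 0 := by
      by_contra hB0
      have := Nat.mul_le_mul_right m h8
      have := Nat.mul_pos (Nat.pos_of_ne_zero hB0) hn0
      nlinarith
    exact Or.inl fun η hη h => (h5 ⟨η, hη⟩ (h7 η hη h hη)).resolve_right fun e => h7 η hη h hη
      (Finset.sum_eq_zero_iff.1 hB0 _ (Finset.mem_filter.2 ⟨Finset.mem_univ _, e⟩))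

theorem not_forall_inner_mul {m n : ℕ} (hmn : m.Coprime n) (hm : m ≠ 1) (hn : n ≠ 1)
    (hcd : ∀ χ, IsIrrCharacter G χ → charDegree χ = 1 ∨ charDegree χ = m ∨ charDegree χ = n)
    (hmin : H3.IsMinNormal (commutator G)) (hper : ⁅commutator G, commutator G⁆ = commutator G)
    [Fintype G] {χ ψ : G → ℂ} (hχ : IsIrrCharacter G χ) (hψ : IsIrrCharacter G ψ)
    (h1 : charDegree χ = m) (h2 : charDegree ψ = n) :
    ¬ ∀ η, IsIrrCharacter G η → classInner (fun g => χ g * ψ g) η ≠ 0 → charDegree η = m := by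
  classical
  intro h
  have hne : m ≠ n := fun e => hm (by rwa [← e, Nat.coprime_self] at hmn)
  have hψc := irr_isCharacter hψ
  have hψ' := isIrrCharacter_conj hψ
  have hd' : charDegree (fun g => conj (ψ g)) = n := by rw [deg_conj hψc, h2]
  let S := Finset.univ.filter fun ζ : IrrCharacter G => charDegree (ζ : G → ℂ) = m ∧
    ∀ η, IsIrrCharacter G η → classInner (fun g => (ζ : G → ℂ) g * ψ g) η ≠ 0 → charDegree η = m
  have hadj : ∀ α β γ : G → ℂ, classInner (fun g => α g * γ g) β ≠ 0 →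
      classInner (fun g => β g * conj (γ g)) α ≠ 0 := fun α β γ h => by
    rw [H7.classInner_mul_left] at h
    simpa only [Ne, H7.classInner_eq_zero_comm (φ := α), mul_comm] using h
  let Θ : G → ℂ := fun g => ψ g * conj (ψ g)
  have hΘ : IsCharacter G Θ := isCharacter_mul hψc (irr_isCharacter hψ')
  have hcl : ∀ ζ ∈ S, ∀ ξ : IrrCharacter G, classInner (fun g => (ζ : G → ℂ) g * Θ g) ξ ≠ 0 →
      ξ ∈ S := fun ζ hζ ξ h3 => by
    obtain ⟨-, h4, h5⟩ := Finset.mem_filter.1 hζ
    have h6 : classInner (fun g => (ζ : G → ℂ) g * ψ g) (fun g => (ξ : G → ℂ) g * ψ g) ≠ 0 := by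
      rw [show (fun g => (ζ : G → ℂ) g * Θ g) = fun g => (ζ : G → ℂ) g * ψ g * conj (ψ g) from
        funext fun g => (mul_assoc _ _ _).symm, H7.classInner_mul_left] at h3
      simpa only [Complex.conj_conj, mul_comm] using h3
    obtain ⟨η, hη, h7, h8⟩ := H7.exists_common_of_inner_ne_zero (char_isClassFunction
      (isCharacter_mul (irr_isCharacter ζ.2) hψc)) h6
    have h9 := h5 η hη h7
    have h10 := (inner_mul_eq_zero_or hmn hm hn hcd hη hψ' h9 hd').resolve_right fun h =>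
      hne (h4.symm.trans (h _ ζ.2 (hadj _ _ _ h7)))
    have h11 := h10 _ ξ.2 (hadj _ _ _ h8)
    exact Finset.mem_filter.2 ⟨Finset.mem_univ _, h11,
      (inner_mul_eq_zero_or hmn hm hn hcd ξ.2 hψ h11 h2).resolve_right fun h =>
        hne (h9.symm.trans (h _ hη h8))⟩
  have hΘr : ∀ g, conj (Θ g) = Θ g := fun g => by simp [Θ, mul_comm]
  have hsym : ∀ α β : IrrCharacter G, classInner (fun g => (α : G → ℂ) g * Θ g) β =
      classInner (fun g => (β : G → ℂ) g * Θ g) α := fun α β => by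
    rw [H7.classInner_mul_left, char_inner_comm (irr_isCharacter α.2)
      (by simp only [hΘr]; exact isCharacter_mul hΘ (irr_isCharacter β.2))]
    simp only [hΘr, mul_comm]
  have hcf : ∀ ζ : IrrCharacter G, IsClassFunction G fun g => (ζ : G → ℂ) g * Θ g := fun ζ =>
    char_isClassFunction (isCharacter_mul (irr_isCharacter ζ.2) hΘ)
  have key : ∀ g, (∑ ζ ∈ S, (ζ : G → ℂ) g) * Θ g = Θ 1 * ∑ ζ ∈ S, (ζ : G → ℂ) g := fun g => by
    have e1 : ∀ ζ ∈ S, ∀ x, (ζ : G → ℂ) x * Θ x =
        ∑ ξ ∈ S, classInner (fun g => (ζ : G → ℂ) g * Θ g) ξ * (ξ : G → ℂ) x := fun ζ hζ x => by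
      rw [show (ζ : G → ℂ) x * Θ x = _ from classFun_apply_eq_sum_irr (hcf ζ) x]
      exact (Finset.sum_subset (Finset.subset_univ _) fun ξ _ hξ => by
        rw [not_not.1 fun h => hξ (hcl ζ hζ ξ h), zero_mul]).symm
    have hd : ∀ ζ ∈ S, (ζ : G → ℂ) 1 = m := fun ζ hζ => by
      rw [← deg_cast', (Finset.mem_filter.1 hζ).2.1]
    rw [Finset.sum_mul, Finset.sum_congr rfl fun ζ hζ => e1 ζ hζ g, Finset.sum_comm,
      Finset.mul_sum]
    refine Finset.sum_congr rfl fun ξ hξ => ?_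
    rw [← Finset.sum_mul]
    congr 1
    apply mul_right_cancel₀ (b := (m : ℂ)) (by exact_mod_cast (h1 ▸ deg_ne_zero hχ))
    rw [mul_comm (Θ 1), ← hd ξ hξ, e1 ξ hξ 1, Finset.sum_mul]
    exact Finset.sum_congr rfl fun ζ hζ => by rw [hsym, hd ζ hζ, hd ξ hξ]
  have := Fintype.ofFinite (commutator G)
  have h3 : ∑ x : commutator G, ∑ ζ ∈ S, (ζ : G → ℂ) x = 0 := by
    rw [Finset.sum_comm]
    exact Finset.sum_eq_zero fun ζ hζ => sum_normal_eq_zero ζ.2 _ fun hle =>
      hm ((Finset.mem_filter.1 hζ).2.1.symm.trans (deg_eq_one_of_commutator_le ζ.2 hle))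
  rw [Finset.sum_eq_single 1 (fun x _ hx => not_not.1 fun h0 => ?_) (by simp),
    Finset.sum_congr rfl fun (ζ : IrrCharacter G) (hζ : ζ ∈ S) =>
      show (ζ : G → ℂ) (1 : commutator G) = m by
      rw [OneMemClass.coe_one, ← deg_cast', (Finset.mem_filter.1 hζ).2.1],
    Finset.sum_const, nsmul_eq_mul, mul_eq_zero, Nat.cast_eq_zero, Nat.cast_eq_zero,
    Finset.card_eq_zero] at h3
  · exact h3.elim (Finset.ne_empty_of_mem (Finset.mem_filter.2
      ⟨Finset.mem_univ (⟨χ, hχ⟩ : IrrCharacter G), h1, h⟩)) (h1 ▸ deg_ne_zero hχ)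
  have h4 : Θ x = Θ 1 := mul_left_cancel₀ h0 ((key x).trans (mul_comm _ _))
  have h5 : ‖ψ x‖ = ‖ψ 1‖ := by
    simp only [Θ, Complex.mul_conj, Complex.normSq_eq_norm_sq, Complex.ofReal_inj] at h4
    exact (sq_eq_sq₀ (norm_nonneg _) (norm_nonneg _)).1 h4
  let Z := (Subgroup.center (G ⧸ charKer ψ)).comap (QuotientGroup.mk' (charKer ψ))
  have hZ : ∀ z, z ∈ Z ↔ ∀ g, ⁅z, g⁆ ∈ charKer ψ := fun z => by
    rw [Subgroup.mem_comap, Subgroup.mem_center_iff, QuotientGroup.forall_mk]
    refine forall_congr' fun g => ?_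
    rw [← QuotientGroup.eq_one_iff, eq_comm, ← commutatorElement_eq_one_iff_mul_comm]; rfl
  rcases hmin.inf_eq_bot_or_le Z with h6 | h6
  · exact hx (Subtype.ext (Subgroup.mem_bot.1
      (h6 ▸ ⟨x.2, (hZ x).2 (commutator_mem_charKer hψ h5)⟩)))
  · exact hn (h2.symm.trans (deg_eq_one_of_commutator_le hψ
      (hper ▸ Subgroup.commutator_le.2 fun a ha b _ => (hZ a).1 (h6 ha) b)))

theorem not_four_le {s : Set ℕ} (hs : s.Finite) (h : s.ncard ≤ 3) {a b c d : ℕ} (ha : a ∈ s)
    (hb : b ∈ s) (hc : c ∈ s) (hd : d ∈ s) (h1 : a ≠ b) (h2 : a ≠ c) (h3 : b ≠ c) :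
    d = a ∨ d = b ∨ d = c := by
  have := Set.eq_of_subset_of_ncard_le (s := {a, b, c}) (t := s) (by
    rintro x (rfl | rfl | rfl) <;> assumption) (by
    rwa [Set.ncard_eq_three.2 ⟨a, b, c, h1, h2, h3, rfl⟩]) hs
  simpa using this.ge hd

theorem ncard_le_of_subset_pair {s : Set ℕ} {a b : ℕ} (h : ∀ x ∈ s, x = a ∨ x = b) :
    s.ncard ≤ 2 :=
  (Set.ncard_le_ncard (t := {a, b}) h).trans ((Set.ncard_insert_le _ _).trans (by simp))

theorem isSolvable_of_ncard_le_aux (k : ℕ) : ∀ (G : Type u) [Group G] [Finite G], Nat.card G = k →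
    (charDegrees G).ncard ≤ 3 → Group.IsSolvable G := by
  induction k using Nat.strong_induction_on with
  | _ k ih =>
  rintro G _ _ rfl h
  by_cases h0 : ∀ χ, IsIrrCharacter G χ → charDegree χ = 1
  · exact isSolvable_of_comm (comm_of_forall_deg_eq_one h0)
  push Not at h0
  obtain ⟨χ, hχ, hm⟩ := h0
  by_cases h1 : ∃ q, q.Prime ∧ ∀ η, IsIrrCharacter G η → charDegree η ≠ 1 → q ∣ charDegree η
  · obtain ⟨q, hq, h1⟩ := h1
    obtain ⟨N, hN, h2, j, h3⟩ := exists_complement_of_dvd_deg hq h1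
    have h4 := (Nat.Prime.coprime_iff_not_dvd hq).1 h2.symm
    have := Fact.mk hq
    refine H1.isSolvable_of_normal_of_quotient N (ih _ (H3.card_lt_of_ne_top N fun e => h4 ?_) N rfl
      (((Set.ncard_le_ncard (charDegrees_subset_image hq h4 h3) (finite_charDegrees.image _)).trans
        (Set.ncard_image_le finite_charDegrees)).trans h))
      (H1.isSolvable_of_isPGroup (IsPGroup.of_card h3))
    rw [e, Subgroup.card_top]
    exact (h1 χ hχ hm).trans (deg_dvd_card hχ)
  push Not at h1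
  obtain ⟨q, hq, hqm⟩ := Nat.exists_prime_and_dvd hm
  obtain ⟨ψ, hψ, hn, hqn⟩ := h1 q hq
  have hne : charDegree χ ≠ charDegree ψ := fun e => hqn (e ▸ hqm)
  have hcd : ∀ η, IsIrrCharacter G η → charDegree η = 1 ∨ charDegree η = charDegree χ ∨
      charDegree η = charDegree ψ := fun η hη => not_four_le finite_charDegrees h
    one_mem_charDegrees (mem_charDegrees hχ) (mem_charDegrees hψ) (mem_charDegrees hη) hm.symm
    hn.symm hne
  have hcop : (charDegree χ).Coprime (charDegree ψ) := Nat.coprime_of_dvd fun r hr h2 h3 => by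
    obtain ⟨η, h4, h5, h6⟩ := h1 r hr
    rcases hcd η h4 with e | e | e
    exacts [h5 e, h6 (e ▸ h2), h6 (e ▸ h3)]
  have hc : commutator G ≠ ⊥ := fun e => hm (deg_eq_one_of_commutator_le hχ (e ▸ bot_le))
  obtain ⟨N, hN, -⟩ := H3.exists_isMinNormal_le (commutator G) hc
  have := hN.normal
  have hs := ih _ (H3.card_quotient_lt N hN.ne_bot) _ rfl
    ((Set.ncard_le_ncard (charDegrees_quotient_subset N) finite_charDegrees).trans h)
  by_cases h2 : commutator G ≤ N
  · obtain rfl := (hN.eq_bot_or_eq _ inferInstance h2).resolve_left hc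
    rcases hN.eq_bot_or_eq _ inferInstance (Subgroup.commutator_le_left _ _ :
      ⁅commutator G, commutator G⁆ ≤ _) with h3 | h3
    · exact ⟨⟨2, h3⟩⟩
    · have := Fintype.ofFinite G
      rcases inner_mul_eq_zero_or hcop hm hn hcd hχ hψ rfl rfl with h4 | h4
      · exact absurd h4 (not_forall_inner_mul hcop hm hn hcd hN h3 hχ hψ rfl rfl)
      · refine absurd ?_ (not_forall_inner_mul hcop.symm hn hm (fun η hη => by
          rcases hcd η hη with e | e | e <;> simp [e]) hN h3 hψ hχ rfl rfl)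
        simpa only [mul_comm] using h4
  obtain ⟨K, hK, hNK⟩ := exists_maxNA hN.normal h2
  have := hK.normal
  have main : ∀ {χ ψ : G → ℂ}, IsIrrCharacter G ψ → charDegree χ ≠ 1 → charDegree ψ ≠ 1 →
      (charDegree χ).Coprime (charDegree ψ) → (∀ η, IsIrrCharacter G η → charDegree η = 1 ∨
        charDegree η = charDegree χ ∨ charDegree η = charDegree ψ) →
      (∀ p Z τ, CaseA K p Z τ → charDegree τ ≠ charDegree χ) ∧
      ∀ p L, CaseB K p L → L.index = charDegree χ → Group.IsSolvable G :=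
    fun {χ ψ} hψ hm hn hcop hcd => by
      have key : ∀ η, IsIrrCharacter G η → ∀ c, charDegree η = charDegree χ * c → c = 1 :=
        fun η hη c e => by
          rcases hcd η hη with e' | e' | e'
          · exact absurd (Nat.eq_one_of_mul_eq_one_right (e.symm.trans e')) hm
          · exact (Nat.mul_eq_left (fun e0 => deg_ne_zero hη (e'.trans e0))).1 (e.symm.trans e')
          · exact absurd (Nat.Coprime.eq_one_of_dvd hcop ⟨c, e'.symm.trans e⟩) hm
      refine ⟨fun p Z τ hA e => ?_, fun p L hB e => ?_⟩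
      · obtain ⟨j, hj⟩ := hA.deg_eq
        obtain ⟨η, h1, h2⟩ := hA.exists_deg_mul_of_not_dvd hψ fun hd => hA.prime.one_lt.ne'
          (Nat.eq_one_of_dvd_coprimes hcop (e ▸ hj ▸ dvd_pow_self p j.succ_ne_zero) hd)
        exact hn (key η h1 _ (e ▸ h2))
      · have := hB.normal
        refine H1.isSolvable_of_normal_of_quotient L (ih _ (H3.card_lt_of_ne_top L hB.ne_top) L rfl
          ((ncard_le_of_subset_pair (a := 1) (b := charDegree ψ) ?_).trans (by omega)))
          (isSolvable_quotient_of_commutator_le hB.le)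
        rintro _ ⟨θ, rfl⟩
        refine (hB.deg_or_dvd θ.2).imp (fun ⟨η, h1, h2⟩ => key η h1 _ (e ▸ h2)) fun hd => ?_
        obtain ⟨η, hη, ho⟩ := exists_over θ.2
        obtain ⟨c, h1, h2⟩ := ho.exists_deg_eq hη θ.2
        have h3 : p ∣ charDegree η := hd.trans (Dvd.intro_left c h1.symm)
        rcases hcd η hη with e' | e' | e'
        · exact absurd (e' ▸ h3) hB.prime.not_dvd_one
        · exact absurd (e ▸ e' ▸ h3) hB.not_dvd
        · rw [← e', h1, Nat.eq_one_of_dvd_coprimes hcop (e ▸ h2) (Dvd.intro _ (h1.symm.trans e')),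
            one_mul]
  have m1 := main hψ hm hn hcop hcd
  have m2 := main hχ hn hm hcop.symm fun η hη => by rcases hcd η hη with e | e | e <;> simp [e]
  rcases hK.cases (hK.comm_of_isSolvable (solvable_of_surjective
    (f := QuotientGroup.map N K (MonoidHom.id G) hNK) (QuotientGroup.map_surjective_of_surjective
      N K (MonoidHom.id G) (QuotientGroup.mk'_surjective K) hNK))) with ⟨p, Z, τ, hA⟩ | ⟨p, L, hB⟩
  · rcases hcd τ hA.irr with e | e | e
    exacts [absurd e hA.ne_one, absurd e (m1.1 p Z τ hA), absurd e (m2.1 p Z τ hA)]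
  · obtain ⟨τ, h1, -, h2⟩ := hB.deg
    rcases hcd τ h1 with e | e | e
    exacts [absurd (h2.symm.trans e) hB.one_lt.ne', m1.2 p L hB (h2.symm.trans e),
      m2.2 p L hB (h2.symm.trans e)]

theorem isSolvable_of_ncard_le (h : (charDegrees G).ncard ≤ 3) : Group.IsSolvable G :=
  isSolvable_of_ncard_le_aux _ G rfl h

end H87
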