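import Mathlib
import Cfsg.Agent.Lib.Deg.FewDeg

/-!
Derived length of groups with at most three character degrees.
-/

set_option autoImplicit false

namespace H87

open Cfsg H6
open scoped ComplexConjugate commutatorElement Pointwise

set_option linter.unusedSectionVars false

variable {G : Type*} [Group G] [Finite G]

theorem exists_cd_pair (h : (charDegrees G).ncard ≤ 2) :
    ∃ m, ∀ χ, IsIrrCharacter G χ → charDegree χ = 1 ∨ charDegree χ = m := by
  by_cases h0 : ∀ χ, IsIrrCharacter G χ → charDegree χ = 1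
  · exact ⟨1, fun χ hχ => Or.inl (h0 χ hχ)⟩
  push Not at h0
  obtain ⟨χ, hχ, hm⟩ := h0
  have := Set.eq_of_subset_of_ncard_le (s := {1, charDegree χ}) (t := charDegrees G) (by
    rintro x (rfl | rfl)
    exacts [one_mem_charDegrees, mem_charDegrees hχ]) (by rwa [Set.ncard_pair hm.symm])
    finite_charDegrees
  exact ⟨_, fun ψ hψ => by simpa using this.ge (mem_charDegrees hψ)⟩

theorem ncard_le_two_of_cd {m : ℕ}
    (h : ∀ χ, IsIrrCharacter G χ → charDegree χ = 1 ∨ charDegree χ = m) :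
    (charDegrees G).ncard ≤ 2 := ncard_le_of_subset_pair (by rintro _ ⟨χ, rfl⟩; exact h _ χ.2)

theorem CaseB.comm_of_cd {K N : Subgroup G} [K.Normal] {p m : ℕ} (hB : CaseB K p N)
    (h : ∀ χ, IsIrrCharacter G χ → charDegree χ = 1 ∨ charDegree χ = m) :
    N.index = m ∧ ∀ a ∈ N, ∀ b ∈ N, a * b = b * a := by
  have := hB.normal
  have h0 := hB.one_lt
  obtain ⟨τ, h1, -, h2⟩ := hB.deg
  have h3 : N.index = m := h2 ▸ (h τ h1).resolve_left (h2 ▸ h0.ne')
  refine ⟨h3, fun a ha b hb => congrArg Subtype.val (comm_of_forall_deg_eq_one (G := N)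
    (fun θ hθ => ?_) ⟨a, ha⟩ ⟨b, hb⟩)⟩
  rcases hB.deg_or_dvd hθ with ⟨η, h4, h5⟩ | hd
  · rcases h η h4 with e | e
    · exact Nat.eq_one_of_mul_eq_one_left (h5.symm.trans e)
    · exact (Nat.mul_eq_left (by omega)).1 (h5.symm.trans (e.trans h3.symm))
  · obtain ⟨η, h4, h5⟩ := exists_deg_dvd N hθ
    rcases h η h4 with e | e
    · exact Nat.dvd_one.1 (e ▸ h5)
    · exact absurd (h3 ▸ e ▸ hd.trans h5) hB.not_dvd

theorem CaseA.of_cd {K Z : Subgroup G} [K.Normal] {p m : ℕ} {τ : G → ℂ} (hA : CaseA K p Z τ)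
    (h : ∀ χ, IsIrrCharacter G χ → charDegree χ = 1 ∨ charDegree χ = m) :
    (∃ e, m = p ^ (e + 1)) ∧ ¬ p ∣ Nat.card (pResidual p G) ∧
      ∀ a ∈ pResidual p G, ∀ b ∈ pResidual p G, a * b = b * a := by
  obtain ⟨e, he⟩ := hA.deg_eq
  have h1 : m = p ^ (e + 1) := ((h τ hA.irr).resolve_left hA.ne_one).symm.trans he
  have h2 := not_dvd_card_pResidual (G := G) hA.prime fun χ hχ h2 => by
    rw [(h χ hχ).resolve_left h2, h1]; exact dvd_pow_self p e.succ_ne_zero
  have := H4.pResidual_normal p G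
  refine ⟨⟨e, h1⟩, h2, fun a ha b hb => congrArg Subtype.val (comm_of_forall_deg_eq_one
    (G := pResidual p G) (fun θ hθ => ?_) ⟨a, ha⟩ ⟨b, hb⟩)⟩
  obtain ⟨η, h4, h5⟩ := exists_deg_dvd _ hθ
  rcases h η h4 with e | e'
  · exact Nat.dvd_one.1 (e ▸ h5)
  · exact Nat.eq_one_of_dvd_coprimes (((Nat.Prime.coprime_iff_not_dvd hA.prime).2 h2).pow_left _)
      (h1 ▸ e' ▸ h5) (deg_dvd_card hθ)

theorem derivedSeries_two_eq_bot (h : (charDegrees G).ncard ≤ 2) : derivedSeries G 2 = ⊥ := by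
  have := isSolvable_of_ncard_le (h.trans (by omega : 2 ≤ 3))
  obtain ⟨m, hm⟩ := exists_cd_pair h
  by_cases hc : commutator G ≤ ⊥
  · exact le_bot_iff.1 ((Subgroup.commutator_le_left _ _).trans hc)
  obtain ⟨K, hK, -⟩ := exists_maxNA inferInstance hc
  have := hK.normal
  rcases hK.cases_of_isSolvable with ⟨p, Z, τ, hA⟩ | ⟨p, N, hB⟩
  · have := Fact.mk hA.prime
    have := H4.pResidual_normal p G
    obtain ⟨k, hk⟩ := H4.index_pResidual_eq_pow (G := G) p
    exact (isM_of_index_pow hA.prime _ (hA.of_cd hm).2.2 hk).derivedSeries_eq_bot h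
  · exact eq_bot_iff.2 (Subgroup.commutator_le.2 fun a ha b hb =>
      commutatorElement_eq_one_iff_mul_comm.2 ((hB.comm_of_cd hm).2 a (hB.le ha) b (hB.le hb)))

theorem CaseB.false_of_isPGroup {K N : Subgroup G} [K.Normal] {p r : ℕ} (hB : CaseB K p N)
    (hr : r.Prime) (h : IsPGroup r (G ⧸ K)) : False := by
  have := Fact.mk hr
  obtain ⟨k, hk⟩ : ∃ k, K.index = r ^ k := IsPGroup.iff_card.1 h
  obtain ⟨j, hj⟩ := hB.relIndex_eq
  obtain ⟨s, hs, h1⟩ := Nat.exists_prime_and_dvd hB.one_lt.ne'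
  rw [← Subgroup.relIndex_mul_index hB.lt.le] at hk
  have h2 := (Nat.prime_dvd_prime_iff_eq hs hr).1 (hs.dvd_of_dvd_pow (hk ▸ h1.mul_left _))
  have h3 := (Nat.prime_dvd_prime_iff_eq hB.prime hr).1 (hB.prime.dvd_of_dvd_pow
    (hk ▸ (hj ▸ dvd_pow_self p j.succ_ne_zero).mul_right _))
  exact hB.not_dvd (h3 ▸ h2 ▸ h1)

theorem exists_pi_complement {d : ℕ}
    (h : ∀ χ, IsIrrCharacter G χ → charDegree χ ≠ 1 → d ∣ charDegree χ) :
    ∃ M : Subgroup G, M.Normal ∧ (Nat.card M).Coprime d ∧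
      (∀ s, s.Prime → s ∣ M.index → s ∣ d) ∧
      ∀ L : Subgroup G, (∀ q, q.Prime → L ≤ pResidual q G) → L ≤ M := by
  let M := ⨅ q : {q : ℕ // q.Prime ∧ q ∣ d}, pResidual q G
  have hM : M.Normal := Subgroup.normal_iInf_normal fun q => H4.pResidual_normal _ _
  refine ⟨M, hM, Nat.coprime_of_dvd fun q hq h1 h2 => not_dvd_card_pResidual (G := G) hq
    (fun χ hχ h3 => h2.trans (h χ hχ h3)) (h1.trans (Subgroup.card_dvd_of_le
      (iInf_le_of_le ⟨q, hq, h2⟩ le_rfl))), fun s hs h1 => ?_,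
    fun L hL => le_iInf fun q => hL q q.2.1⟩
  have := Fact.mk hs
  obtain ⟨g, hg⟩ := exists_prime_orderOf_dvd_card' (G := G ⧸ M) s h1
  obtain ⟨g, rfl⟩ := QuotientGroup.mk_surjective g
  by_contra hn
  refine hs.one_lt.ne' (hg.symm.trans (orderOf_eq_one_iff.2 ((QuotientGroup.eq_one_iff g).2
    (Subgroup.mem_iInf.2 fun q => ?_))))
  have := Fact.mk q.2.1
  have := H4.pResidual_normal q G
  obtain ⟨k, hk⟩ := H4.index_pResidual_eq_pow (G := G) q
  refine (QuotientGroup.eq_one_iff g).1 (orderOf_eq_one_iff.1 (Nat.eq_one_of_dvd_coprimes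
    (((Nat.coprime_primes hs q.2.1).2 fun e => hn (e ▸ q.2.2)).pow_right k)
    (orderOf_dvd_of_pow_eq_one ((QuotientGroup.eq_one_iff _).2 (Subgroup.mem_iInf.1
      ((QuotientGroup.eq_one_iff (N := M) _).1 ?_) q))) (hk ▸ orderOf_dvd_natCard _)))
  rw [QuotientGroup.mk_pow, ← hg, pow_orderOf_eq_one]

theorem derivedSeries_three_eq_bot (h : (charDegrees G).ncard ≤ 3) : derivedSeries G 3 = ⊥ := by
  have := isSolvable_of_ncard_le h
  by_cases h0 : (charDegrees G).ncard ≤ 2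
  · exact le_bot_iff.1 ((Subgroup.commutator_le_left _ _).trans (derivedSeries_two_eq_bot h0).le)
  have hdiff : ∀ {s : Set ℕ} {a : ℕ}, a ∈ charDegrees G → s ⊆ charDegrees G \ {a} → s.ncard ≤ 2 :=
    fun ha hs => (Set.ncard_le_ncard hs finite_charDegrees.diff).trans (by
      rw [Set.ncard_diff_singleton_of_mem ha]; omega)
  by_cases hA : ∃ (K : Subgroup G) (p : ℕ) (Z : Subgroup G) (τ : G → ℂ), MaxNA K ∧ CaseA K p Z τ
  · obtain ⟨K, p, Z, τ, hK, hA⟩ := hA
    have := hK.normal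
    have hp := hA.prime
    have := Fact.mk hp
    obtain ⟨e, he⟩ := hA.deg_eq
    have h1 := not_dvd_card_pResidual (G := G) hp fun χ hχ h1 => not_not.1 fun h2 => by
      obtain ⟨η, h3, h4⟩ := hA.exists_deg_mul_of_not_dvd hχ h2
      rcases not_four_le finite_charDegrees h one_mem_charDegrees (mem_charDegrees hA.irr)
        (mem_charDegrees hχ) (mem_charDegrees h3) hA.ne_one.symm h1.symm
        (fun e' => h2 (e' ▸ he ▸ dvd_pow_self p e.succ_ne_zero)) with e' | e' | e'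
      · exact h1 (Nat.eq_one_of_mul_eq_one_left (h4.symm.trans e'))
      · exact h1 ((Nat.mul_eq_left (deg_ne_zero hA.irr)).1 (h4.symm.trans e'))
      · exact hA.ne_one ((Nat.mul_eq_right (deg_ne_zero hχ)).1 (h4.symm.trans e'))
    set N := pResidual p G
    have : N.Normal := H4.pResidual_normal p G
    obtain ⟨k, hk⟩ : ∃ k, N.index = p ^ k := H4.index_pResidual_eq_pow p
    by_cases h2 : ∀ θ, IsIrrCharacter N θ → charDegree θ = 1
    · exact (isM_of_index_pow hp N (fun a ha b hb => congrArg Subtype.val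
        (comm_of_forall_deg_eq_one h2 ⟨a, ha⟩ ⟨b, hb⟩)) hk).derivedSeries_eq_bot h
    push Not at h2
    obtain ⟨θ, hθ, h2⟩ := h2
    obtain ⟨χ, hχ, ho⟩ := exists_over hθ
    have h3 : derivedSeries N 2 = ⊥ := derivedSeries_two_eq_bot (((Set.ncard_le_ncard
      (t := (fun n => ordCompl[p] n) '' (charDegrees G \ {charDegree τ})) (fun x hx => by
        obtain ⟨y, hy, rfl⟩ := charDegrees_subset_image hp h1 hk hx
        by_cases e' : y = charDegree τ
        · exact ⟨1, ⟨one_mem_charDegrees, hA.ne_one.symm⟩, by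
            simp only [e', he, Nat.ordCompl_self_pow hp]; simp⟩
        · exact ⟨y, ⟨hy, e'⟩, rfl⟩) (finite_charDegrees.diff.image _)).trans
      (Set.ncard_image_le finite_charDegrees.diff)).trans
      (hdiff (mem_charDegrees hA.irr) subset_rfl))
    have h4 : derivedSeries G 2 ≤ ⁅N, N⁆ := derivedSeries_le_of_quotient (derivedSeries_two_eq_bot
      (hdiff (mem_charDegrees hχ) fun x hx => ⟨charDegrees_quotient_subset _ hx, fun e' => ?_⟩))
    · refine le_bot_iff.1 ((Subgroup.commutator_mono h4 h4).trans ?_)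
      rw [← Subgroup.map_subtype_commutator N, ← Subgroup.map_commutator,
        show ⁅commutator N, commutator N⁆ = ⊥ from h3, Subgroup.map_bot]
    · obtain ⟨β, rfl⟩ := hx
      have h5 := deg_dvd_index_of_comm (N.map (QuotientGroup.mk' ⁅N, N⁆)) (by
        rintro _ ⟨a, ha, rfl⟩ _ ⟨b, hb, rfl⟩
        exact commutatorElement_eq_one_iff_mul_comm.1 ((QuotientGroup.eq_one_iff _).2
          (Subgroup.commutator_mem_commutator ha hb))) β.2
      exact h2 (Nat.eq_one_of_dvd_coprimes (((Nat.Prime.coprime_iff_not_dvd hp).2 h1).pow_left k)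
        ((ho.deg_dvd hχ hθ).trans (hk ▸ (show _ = charDegree χ from e') ▸ h5.trans
          (Subgroup.index_map_dvd _ (QuotientGroup.mk'_surjective _)))) (deg_dvd_card hθ))
  have hc : ¬ commutator G ≤ ⊥ := fun hc => h0 (ncard_le_two_of_cd (m := 1) fun χ hχ =>
    Or.inl (deg_eq_one_of_commutator_le hχ (hc.trans bot_le)))
  obtain ⟨K, hK, -⟩ := exists_maxNA inferInstance hc
  have := hK.normal
  obtain ⟨p, N, hB⟩ := hK.cases_of_isSolvable.resolve_left fun ⟨p, Z, τ, h⟩ =>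
    hA ⟨K, p, Z, τ, hK, h⟩
  have := hB.normal
  obtain ⟨τ, hτ, -, hτd⟩ := hB.deg
  obtain ⟨ξ, hξ, hξ1, hξ2⟩ : ∃ ξ, IsIrrCharacter G ξ ∧ charDegree ξ ≠ 1 ∧
      charDegree ξ ≠ N.index := by
    by_contra hn
    push Not at hn
    exact h0 (ncard_le_two_of_cd fun χ hχ => or_iff_not_imp_left.2 (hn χ hχ))
  have hcd : ∀ η, IsIrrCharacter G η → charDegree η = 1 ∨ charDegree η = N.index ∨
      charDegree η = charDegree ξ := fun η hη => not_four_le finite_charDegrees h
    one_mem_charDegrees (hτd ▸ mem_charDegrees hτ) (mem_charDegrees hξ) (mem_charDegrees hη)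
    hB.one_lt.ne hξ1.symm hξ2.symm
  obtain ⟨M, hM, h1, h2, h3⟩ := exists_pi_complement (G := G) (d := N.index.gcd (charDegree ξ))
    fun η hη h1 => by
      rcases hcd η hη with e | e | e
      exacts [absurd e h1, e ▸ Nat.gcd_dvd_left _ _, e ▸ Nat.gcd_dvd_right _ _]
  have h4 : commutator G ≤ M := h3 _ fun q hq => not_not.1 fun hn => by
    obtain ⟨K', hK', hle⟩ := exists_maxNA (H4.pResidual_normal q G) hn
    have := hK'.normal
    rcases hK'.cases_of_isSolvable with ⟨p, Z, τ, h⟩ | ⟨p, N, h⟩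
    · exact hA ⟨K', p, Z, τ, hK', h⟩
    · exact h.false_of_isPGroup hq (H4.isPGroup_quotient_of_pResidual_le hle)
  have h5 : ∀ θ, IsIrrCharacter (M.subgroupOf N) θ → charDegree θ ≠ 1 → ∃ c,
      charDegree ξ = c * charDegree θ ∧ ∀ η, IsIrrCharacter (M.subgroupOf N) η →
        (charDegree η).Coprime c := fun θ hθ hθ1 => by
    have hco : ∀ η, IsIrrCharacter (M.subgroupOf N) η →
        (charDegree η).Coprime (N.index.gcd (charDegree ξ)) := fun η hη =>
      h1.coprime_dvd_left ((deg_dvd_card hη).trans (H3.card_subgroupOf_dvd M N))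
    obtain ⟨ψ, hψ, ho1⟩ := exists_over hθ
    obtain ⟨χ, hχ, ho2⟩ := exists_over hψ
    obtain ⟨k1, e1, d1⟩ := ho1.exists_deg_eq hψ hθ
    obtain ⟨k2, e2, d2⟩ := ho2.exists_deg_eq hχ hψ
    rcases hcd χ hχ with e | e | e
    · exact absurd (Nat.eq_one_of_mul_eq_one_left (e1 ▸ Nat.eq_one_of_mul_eq_one_left
        (e2.symm.trans e))) hθ1
    · have h5 : charDegree ψ ∣ N.index := Dvd.intro_left _ (e2.symm.trans e)
      obtain ⟨η, h6, h7⟩ := (hB.deg_or_dvd hψ).resolve_right fun hd => hB.not_dvd (hd.trans h5)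
      refine absurd ((hco θ hθ).eq_one_of_dvd ((Dvd.intro_left _ e1.symm).trans
        (Nat.dvd_gcd h5 ?_))) hθ1
      rcases hcd η h6 with e' | e' | e'
      · exact absurd (Nat.eq_one_of_mul_eq_one_right (h7.symm.trans e')) hB.one_lt.ne'
      · rw [(Nat.mul_eq_left Subgroup.index_ne_zero_of_finite).1 (h7.symm.trans e')]
        exact one_dvd _
      · exact Dvd.intro_left _ (h7.symm.trans e')
    · refine ⟨k2 * k1, by rw [← e, e2, e1, mul_assoc], fun η hη => Nat.Coprime.mul_right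
        ((hco η hη).coprime_dvd_right (Nat.dvd_gcd d2 (Dvd.intro _ (e2.symm.trans e))))
        (Nat.coprime_of_dvd fun s hs h5 h6 => hs.one_lt.ne' (Nat.eq_one_of_dvd_coprimes (hco η hη)
          h5 (h2 s hs (h6.trans (d1.trans (Subgroup.relIndex_dvd_index_of_normal M N))))))⟩
  have h6 : derivedSeries (M.subgroupOf N) 2 = ⊥ := by
    refine derivedSeries_two_eq_bot ?_
    by_cases h6 : ∀ θ, IsIrrCharacter (M.subgroupOf N) θ → charDegree θ = 1
    · exact ncard_le_two_of_cd (m := 1) fun θ hθ => Or.inl (h6 θ hθ)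
    push Not at h6
    obtain ⟨θ, hθ, h6⟩ := h6
    refine ncard_le_two_of_cd (m := charDegree θ) fun η hη => or_iff_not_imp_left.2 fun h7 => ?_
    obtain ⟨c, e1, c1⟩ := h5 θ hθ h6
    obtain ⟨d, e2, c2⟩ := h5 η hη h7
    exact Nat.dvd_antisymm ((c1 η hη).dvd_of_dvd_mul_left (Dvd.intro_left _ (e2.symm.trans e1)))
      ((c2 θ hθ).dvd_of_dvd_mul_left (Dvd.intro_left _ (e1.symm.trans e2)))
  have := derivedSeries_add_le (N.subtype.comp (M.subgroupOf N).subtype) (j := 1)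
    (fun g hg => ⟨⟨⟨g, hB.le hg⟩, h4 hg⟩, rfl⟩) 2
  rwa [h6, Subgroup.map_bot, le_bot_iff] at this

theorem sup_sylow_eq_top {p k : ℕ} [hp : Fact p.Prime] {A : Subgroup G} (h : A.index ∣ p ^ k)
    (P : Sylow p G) : A ⊔ P = ⊤ :=
  Subgroup.index_eq_one.1 (Nat.eq_one_of_dvd_coprimes (((Nat.Prime.coprime_iff_not_dvd hp.out).2
    P.not_dvd_index).pow_left k) ((Subgroup.index_dvd_of_le le_sup_left).trans h)
    (Subgroup.index_dvd_of_le le_sup_right))

theorem normal_of_sup_eq_top {A P : Subgroup G} (hA : A ≤ Subgroup.center G) (h : A ⊔ P = ⊤) :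
    P.Normal := by
  rw [← Subgroup.normalizer_eq_top_iff, eq_top_iff, ← h]
  exact sup_le (hA.trans (Subgroup.center_le_normalizer _)) Subgroup.le_normalizer

end H87
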