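import Mathlib
import Cfsg.Agent.Lib.Comp.PConstrained
import Cfsg.Agent.Lib.Core.CoprimeSylow
import Cfsg.Agent.Lib.Core.Hall
import Cfsg.Agent.Lib.FGS.ClassSize

/-!
Sylow subgroups normalizing Sylow subgroups; groups with TI Sylow subgroups; a transfer lemma.
-/

set_option autoImplicit false

namespace H87

open Cfsg
open scoped commutatorElement Pointwise

set_option linter.unusedSectionVars false

universe u

variable {G : Type*} [Group G] [Finite G]

theorem le_pPrimeCore_of_forall {p q : ℕ} [hp : Fact p.Prime] [hq : Fact q.Prime] (hpq : p ≠ q)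
    (hs : IsPSolvable p G) {Q : Subgroup G} (hQ : IsPGroup q Q)
    (h : ∀ y ∈ Q, ∃ (P : Sylow p G) (R : Subgroup G), IsPGroup q R ∧ y ∈ R ∧
      (P : Subgroup G) ≤ Subgroup.normalizer (R : Set G)) : Q ≤ pPrimeCore p G := fun y hy => by
  obtain ⟨P, R, hR, hyR, hP⟩ := h y hy
  let f := QuotientGroup.mk' (pPrimeCore p G)
  have hf := QuotientGroup.mk'_surjective (pPrimeCore p G)
  have hd := IsPGroup.disjoint_of_ne p q hpq _ _ (H1.isPGroup_pCore (p := p)) (hR.map f)
  have h1 : pCore p _ ≤ Subgroup.normalizer (R.map f : Set _) :=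
    (H1.pCore_le_sylow (P.mapSurjective hf)).trans
      ((Subgroup.map_mono hP).trans (Subgroup.le_normalizer_map f))
  refine (QuotientGroup.eq_one_iff y).1 (hd.le_bot ⟨H23.centralizer_pCore_le_of_isPSolvable
    ((H3.isPSolvable_iff_isPiSeparable hp.out).2 ((H3.isPiSeparable_of_isPSolvable hp.out
      hs).quotient _)) H1.pPrimeCore_quotient_pPrimeCore fun x hx =>
    commutatorElement_eq_one_iff_mul_comm.1 (hd.le_bot ⟨?_, ?_⟩), y, hyR, rfl⟩)
  · exact Subgroup.commutator_le_left _ ⊤ (Subgroup.commutator_mem_commutator hx trivial)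
  · exact mul_mem (H3.conj_mem_of_mem_normalizer (h1 hx) ⟨y, hyR, rfl⟩) ((R.map f).inv_mem ⟨y, hyR, rfl⟩)

theorem exists_sylow_le_normalizer_of_not_dvd {p q : ℕ} [hp : Fact p.Prime] [hq : Fact q.Prime]
    (h : ¬ q ∣ (pPrimeCore p G).index) :
    ∃ (P : Sylow p G) (Q : Sylow q G), (P : Subgroup G) ≤ Subgroup.normalizer (Q : Set G) := by
  obtain ⟨Q, hQ⟩ := H80.exists_sylow_le_of_not_dvd_index h
  obtain ⟨P⟩ : Nonempty (Sylow p G) := inferInstance
  obtain ⟨e, -, he⟩ := H3.exists_conj_le_of_isPGroup (N := pPrimeCore p G)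
    (K := Subgroup.normalizer (Q : Set G)) Subgroup.le_normalizer_of_normal P.isPGroup'
    (by rw [sup_comm, Sylow.normalizer_sup_eq_top' Q hQ]; exact le_top) H1.not_dvd_card_pPrimeCore
  exact ⟨e • P, Q, he⟩

theorem not_dvd_index_normalizer_aux {p q : ℕ} [hp : Fact p.Prime] [hq : Fact q.Prime] (n : ℕ) :
    ∀ (G : Type u) [Group G] [Finite G], Nat.card G = n → H3.IsPiSeparable {q} G →
      (∀ y : G, (∃ k, orderOf y = q ^ k) → ¬ p ∣ (Subgroup.centralizer {y}).index) →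
      ∀ Q : Sylow q G, ¬ p ∣ (Subgroup.normalizer ((Q : Subgroup G) : Set G)).index := by
  induction n using Nat.strong_induction_on with
  | _ n ih =>
  rintro G _ _ rfl hs h Q
  rcases subsingleton_or_nontrivial G with h0 | h0
  · rw [Subsingleton.elim (Subgroup.normalizer _) ⊤, Subgroup.index_top]
    exact hp.out.not_dvd_one
  obtain ⟨N, hN, hN0, hπ⟩ := hs.exists_normal
  let f := QuotientGroup.mk' N
  have hf := QuotientGroup.mk'_surjective N
  have hord : ∀ y ∈ (Q : Subgroup G), ∃ k, orderOf y = q ^ k := fun y hy => by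
    simpa using IsPGroup.iff_orderOf.1 Q.isPGroup' ⟨y, hy⟩
  have h1 := ih _ (H3.card_quotient_lt N hN0) _ rfl (hs.quotient N) (fun y ⟨k, hk⟩ => by
    obtain ⟨R, hR⟩ := (IsPGroup.of_card ((Nat.card_zpowers y).trans hk)).exists_le_sylow
    obtain ⟨R, rfl⟩ := Sylow.mapSurjective_surjective hf q R
    obtain ⟨x, hx, rfl⟩ := hR (Subgroup.mem_zpowers y)
    exact fun hd => h x (by simpa using IsPGroup.iff_orderOf.1 R.isPGroup' ⟨x, hx⟩)
      (hd.trans (H80.cs_map_dvd hf x))) (Q.mapSurjective hf)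
  rw [Sylow.coe_mapSurjective, ← Subgroup.index_comap_of_surjective _ hf] at h1
  rcases hπ with hπ | hπ
  · rwa [Subgroup.comap_normalizer_eq_of_surjective _ hf, Subgroup.comap_map_eq,
      QuotientGroup.ker_mk', sup_eq_left.2 ((H1.isPiSubgroup_singleton_iff.1 hπ).le_sylow_of_normal Q)]
      at h1
  have hc := H1.isPiSubgroup_compl_singleton_iff.1 hπ
  have hcop : ∀ A ≤ (Q : Subgroup G), (Nat.card A).Coprime (Nat.card N) := fun A hA =>
    H1.coprime_card_of_isPGroup_of_coprime (Q.isPGroup'.to_le hA) hc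
  have hsol : ∀ A ≤ (Q : Subgroup G), Group.IsSolvable A := fun A hA =>
    H1.isSolvable_of_isPGroup (Q.isPGroup'.to_le hA)
  rw [← H2.map_mk'_normalizer (hcop _ le_rfl) (.inl (hsol _ le_rfl)), Subgroup.comap_map_eq,
    QuotientGroup.ker_mk', sup_comm] at h1
  rw [← Subgroup.relIndex_mul_index (le_sup_right : _ ≤ N ⊔ _),
    H3.relIndex_sup_right_of_le_normalizer Subgroup.le_normalizer_of_normal, hp.out.dvd_mul, not_or]
  refine ⟨fun hd => ?_, h1⟩
  obtain ⟨P, hP, hQP⟩ := H2.exists_invariant_sylowIn Subgroup.le_normalizer_of_normal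
    (hcop _ le_rfl) (.inl (hsol _ le_rfl)) p
  refine hP.toSylow.not_dvd_index (hd.trans (Subgroup.relIndex_dvd_of_le_left N
    (le_trans (b := Subgroup.centralizer _) (fun x hx y hy => ?_)
      (Subgroup.centralizer_le_normalizer _))))
  have hy' := Subgroup.zpowers_le.2 hy
  have h2 := (H2.sylowIn_inf_centralizer Subgroup.le_normalizer_of_normal (hcop _ hy')
    (.inl (hsol _ hy')) hP (hy'.trans hQP)).card_eq
  rw [H80.centralizer_zpowers] at h2
  obtain ⟨k, hk⟩ := IsPGroup.iff_card.1 hP.isPGroup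
  have h3 := Subgroup.card_dvd_of_le hP.le
  rw [← H1.card_inf_mul_relIndex (Subgroup.centralizer {y}) N, hk, inf_comm] at h3
  have h4 := (hp.out.pow_dvd_iff_le_factorization Nat.card_pos.ne').1
    ((((Nat.Prime.coprime_iff_not_dvd hp.out).2 fun e => h y (hord y hy)
      (e.trans (H80.relIndex_Cx_dvd_cs N y))).pow_left k).dvd_of_dvd_mul_right h3)
  exact H80.mem_Cx'.1 ((Subgroup.eq_of_le_of_card_ge inf_le_left
    (h2 ▸ hk ▸ Nat.pow_le_pow_right hp.out.pos h4)).ge hx).2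

/-- Distinct Sylow `p`-subgroups intersect trivially. -/
def SylTI (p : ℕ) (G : Type*) [Group G] : Prop :=
  ∀ P Q : Sylow p G, ∀ x ∈ (P : Subgroup G), x ∈ (Q : Subgroup G) → x ≠ 1 → P = Q

theorem sylTI_iff {p : ℕ} [Fact p.Prime] (P : Sylow p G) :
    SylTI p G ↔ ∀ g : G, g ∉ Subgroup.normalizer ((P : Subgroup G) : Set G) →
      (P : Subgroup G) ⊓ (MulAut.conj g • (P : Subgroup G)) = ⊥ := by
  refine ⟨fun h g hg => eq_bot_iff.2 fun x hx => not_not.1 fun h1 => hg
    (Sylow.smul_eq_iff_mem_normalizer.1 (h P (g • P) x hx.1 hx.2 h1).symm), fun h Q R x h1 h2 h3 => ?_⟩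
  obtain ⟨a, rfl⟩ := MulAction.exists_smul_eq G P Q
  obtain ⟨b, rfl⟩ := MulAction.exists_smul_eq G (a • P) R
  have h4 : (a⁻¹ * b * a) • P = P := Sylow.smul_eq_iff_mem_normalizer.2 (not_not.1 fun hn => h3 (by
    have : a⁻¹ * x * a = 1 := (h _ hn).le ⟨H3.mem_conj_smul_iff.1 h1, H3.mem_conj_smul_iff.2 (by
      simpa [mul_assoc] using H3.mem_conj_smul_iff.1 (H3.mem_conj_smul_iff.1 h2))⟩
    simpa [mul_assoc] using congrArg (a * · * a⁻¹) this))
  rw [mul_smul, mul_smul, inv_smul_eq_iff] at h4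
  exact h4.symm

theorem SylTI.subgroup {p : ℕ} (h : SylTI p G) (N : Subgroup G) : SylTI p N :=
  fun P Q x h1 h2 h3 => by
    obtain ⟨P', hP⟩ := P.exists_comap_subtype_eq
    obtain ⟨Q', hQ⟩ := Q.exists_comap_subtype_eq
    obtain rfl := h P' Q' x (hP.ge h1) (hQ.ge h2) fun e => h3 (Subtype.ext e)
    exact Sylow.ext (hP.symm.trans hQ)

theorem SylTI.centralizer_eq_bot {p : ℕ} [Fact p.Prime] (h : SylTI p G) (h1 : pCore p G = ⊥)
    (h2 : pPrimeCore p G = ⊥) (K : Subgroup G) [K.Normal] (hK : K ≠ ⊥) :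
    Subgroup.centralizer (K : Set G) = ⊥ := by
  set C := Subgroup.centralizer (K : Set G)
  obtain ⟨x, hx, hx1⟩ := H1.exists_mem_orderOf_eq_prime (Fact.out : p.Prime) (not_not.1 fun hn =>
    hK (le_bot_iff.1 ((H1.le_pPrimeCore_of_not_dvd hn).trans h2.le)))
  have h3 : ∀ P : Sylow p G, ∀ c ∈ C, c • P = P := fun P c hc => by
    obtain ⟨Q, hQ⟩ := (IsPGroup.of_card ((Nat.card_zpowers x).trans
      (hx1.trans (pow_one p).symm))).exists_le_sylow
    obtain ⟨g, rfl⟩ := MulAction.exists_smul_eq G Q P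
    have h4 := H3.conj_mem_conj_smul g (hQ (Subgroup.mem_zpowers x))
    refine h _ _ (g * x * g⁻¹) (H3.mem_conj_smul_iff.2 ?_) h4 fun e => ?_
    · rwa [mul_assoc, hc _ (‹K.Normal›.conj_mem x hx g), inv_mul_cancel_left]
    · rw [conj_eq_one_iff.1 e, orderOf_one] at hx1
      exact (Fact.out : p.Prime).one_lt.ne hx1
  obtain ⟨R⟩ : Nonempty (Sylow p C) := inferInstance
  obtain ⟨P, hP⟩ := R.exists_comap_subtype_eq
  have h4 : (R : Subgroup C).Normal := hP ▸ ⟨fun y hy c => by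
    have := H3.conj_mem_conj_smul (c : G) hy
    rwa [← Sylow.coe_subgroup_smul, h3 P c c.2] at this⟩
  have := R.characteristic_of_normal h4
  have h5 := (H1.le_pCore (R.isPGroup'.map C.subtype)).trans h1.le
  refine le_bot_iff.1 ((H1.le_pPrimeCore_of_not_dvd fun hd => R.ne_bot_of_dvd_card hd ?_).trans h2.le)
  exact (Subgroup.map_eq_bot_iff_of_injective _ C.subtype_injective).1 (le_bot_iff.1 h5)

theorem SylTI.le_of_isMinNormal {p : ℕ} [Fact p.Prime] (h : SylTI p G) (h1 : pCore p G = ⊥)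
    (h2 : pPrimeCore p G = ⊥) {N : Subgroup G} (hN : H3.IsMinNormal N) (K : Subgroup G) [K.Normal]
    (hK : K ≠ ⊥) : N ≤ K := (hN.inf_eq_bot_or_le K).resolve_left fun e =>
  haveI := hN.normal
  hN.ne_bot (le_bot_iff.1 ((Subgroup.commutator_eq_bot_iff_le_centralizer.1 (le_bot_iff.1
    ((Subgroup.commutator_le_inf N K).trans e.le))).trans (h.centralizer_eq_bot h1 h2 K hK).le))

theorem transfer_pow_eq {A : Type*} [CommGroup A] {N P : Subgroup G} [hN : N.Normal]
    (h : P ⊔ N = ⊤) (φ : P →* A) {k : ℕ} (hk : ∀ y : P, (y : G) ∈ N → φ y ^ k = 1) (x : P) :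
    MonoidHom.transfer φ x ^ k = (φ x ^ k) ^ P.index := by
  classical
  have := Fintype.ofFinite (Quotient (MulAction.orbitRel (Subgroup.zpowers (x : G)) (G ⧸ P)))
  rw [MonoidHom.transfer_eq_prod_quotient_orbitRel_zpowers_quot, ← Finset.prod_pow,
    Subgroup.index_eq_sum_minimalPeriod P (x : G), ← Finset.prod_pow_eq_pow_sum]
  refine Finset.prod_congr rfl fun q _ => ?_
  generalize_proofs h1 h2
  generalize q.out.out = t at h2 ⊢
  generalize Function.minimalPeriod _ _ = j at h2 ⊢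
  obtain ⟨y, hy, n, hn, rfl⟩ := H3.mem_sup_iff_of_normal'.1 (h.ge (Subgroup.mem_top t))
  let z : P := (⟨y, hy⟩ : P)⁻¹ * x ^ j * ⟨y, hy⟩
  have h3 := hk (z⁻¹ * ⟨_, h2⟩) (by
    have := mul_mem (hN.conj_mem _ (inv_mem hn) (z : G)⁻¹) hn
    convert this using 1
    simp [z, mul_assoc])
  rw [map_mul, mul_pow, map_inv, inv_pow, inv_mul_eq_one] at h3
  rw [← h3, pow_right_comm]
  simp [z]

end H87
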